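import Cfsg.Agent.Mrg.Omega.IId.ThmCQ.NsTor
import Cfsg.Agent.Mrg.Omega.NOThreeL.RA.Base
import Mathlib
import Cfsg.Agent.Mrg.Omega.NOThreeL.RF.Wc
import Cfsg.Agent.MinSimple.CaseD8
import Mathlib.FieldTheory.Fixed
import Mathlib.LinearAlgebra.LinearIndependent.Lemmas
import Mathlib.Algebra.CharP.Algebra
import Mathlib.Algebra.Algebra.ZMod
import Mathlib.FieldTheory.Finite.Basic
import Mathlib.GroupTheory.GroupAction.Quotient
import Cfsg.Agent.Mrg.Omega.NOThreeL.RA.FromNat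
import Cfsg.Agent.Mrg.Omega.IId.Ns.Half
import Cfsg.Agent.Mrg.Omega.FFMutual
import Cfsg.Agent.Lib.GoldschmidtFusion
import Cfsg.Agent.Lib.ProductSet
import Cfsg.Agent.Mrg.Omega.NOThreeL.RTwo
import Cfsg.Agent.Mrg.Omega.NOThreeL.RStr.Act
import Cfsg.Agent.Mrg.Omega.NOThreeL.RFourFrame
import Cfsg.Agent.Mrg.Omega.NOThreeL.RA.Pair
import Cfsg.Agent.StdRank2.OutField

-- merged: Cfsg.Agent.Mrg.Omega.NOThreeL.RF.Lvl
section

section


/-!
# NO-3L, `R ∩ (A)`, `k = 1`, fields (`NsF`): the level of `V = V_P`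

`M : NatK F S P V D 1`, `V = zl S P`, `D = cv S P`, `4 ≤ |F|` (`q : Sit F S P 1`), split or nonsplit.  `S₀ = LS M` = the elements
of `S` acting as an element of `SL₂(F)` on `V / D` (no field automorphism), `x_i(v) = M.e v 0 i`.

* `Zp M` = `Z⁺ = {v ∈ V | x₁(v) = 0} = C_V(S₀)` (`Zp_eq`); `D, Z ≤ Z⁺`; `S`, `N_P(S₀)` normalise `Z⁺`;
* `Rt M = R` = the torus part of `Z⁺`: `Z⁺ = R × D` (`exists_rd`, `R_inf_D`), `R` covers the line (`exists_R`, `R_inj`);
* `eps M` = the projection of `Z⁺` onto `D` along `R` (`eps_*`), `S`-equivariant, constant under the torus;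
* `tor` : `diag(t, t⁻¹)` is induced by an element of `P ∩ N(S₀)`, which centralises `D` and normalises `R`;
* `bet M s` : `s ∈ S₀` acts as `up (bet M s)` (`bet_act`, `bet_mul`, `bet_surj`, `bet_eq_zero`);
* **`exists_isG`** : there is an additive `g : F → D` with `[v, s] = (x₁(v) β(s), g(x₁(v)² β(s)))` (`IsG M g`).
-/

set_option autoImplicit false
set_option linter.unusedSectionVars false
set_option linter.unusedVariables false

namespace Cfsg.Agent.Omega.NOThreeL.RF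

open Subgroup Cfsg Cfsg.Agent.Omega.MinPar
open Cfsg.Agent.ZN (zc zl o2)
open Cfsg.Agent.Omega.Frame
open Cfsg.Agent.Omega.NoFF.Basic (conj_conj mem_conj conj_le_iff conj_le_centralizer comm_symm comm_mono)
open Cfsg.Agent.MinSimple.VModule (zl_le zc_le_zl le_normalizer_zl zc_le o2_isPGroup le_normalizer_o2 le_o2
  normalizer_le_normalizer_zc mem_zc)
open Cfsg.Agent.Omega.NOThreeL (mem_normalizer_of_conj_eq le_normalizer_of)
open Cfsg.Agent.Omega.NOThreeL.RTools (cm cm_def conj_mem_of_mem)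
open Cfsg.Agent.Omega.FFThm (NatK ActsSL)
open Cfsg.Agent.Omega.FrameFF (cv)
open Cfsg.Agent.Omega.HOne (cv_le conj_mem_zl conj_mem_cv)
open Cfsg.Agent.Omega.IId.Ns (Al Mv one1 one1_same one1_ne exists_omega)
open Cfsg.Agent.Omega.IId.ThmCQ.Nsp
open Cfsg.Agent.Lib.SL2Mat
open Cfsg.Agent.Omega.NatPair (ap ap_mul ap_one ap_inv_ap)
open scoped Pointwise

universe u

variable {G : Type u} [Group G] [Finite G] {F : Type} [Field F] [Finite F] [CharP F 2] {S : Sylow 2 G} {P : Subgroup G}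

section defs

variable (M : NatK F (S : Subgroup G) P (zl (S : Subgroup G) P) (cv (S : Subgroup G) P) 1)

/-- `Z⁺` = the vectors on the line -/
def Zp : Subgroup G where
  carrier := {v | v ∈ zl (S : Subgroup G) P ∧ M.e v 0 1 = 0}
  one_mem' := ⟨one_mem _, by rw [IId.Cv.e_one M]; rfl⟩
  mul_mem' := by
    rintro a b ⟨ha, h1⟩ ⟨hb, h2⟩
    refine ⟨mul_mem ha hb, ?_⟩
    rw [M.mul a ha b hb, Pi.add_apply, Pi.add_apply, h1, h2, add_zero]
  inv_mem' := by
    rintro a ⟨ha, h1⟩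
    refine ⟨inv_mem ha, ?_⟩
    rw [IId.Cv.e_inv M ha, Pi.neg_apply, Pi.neg_apply, h1, neg_zero]

/-- `R`: the torus part of `Z⁺` -/
def Rt : Subgroup G := Zf M 0

/-- the projection of `Z⁺` onto `D` along `R` -/
noncomputable def eps (z : G) : G := by
  classical
  exact if h : ∃ d ∈ cv (S : Subgroup G) P, z * d ∈ Rt M then h.choose else 1

/-- `s ∈ S₀` acts as `up (bet M s)` -/
noncomputable def bet (s : G) : F := by
  classical
  exact if h : ∃ b : F, ActsSL M.e (zl (S : Subgroup G) P) (cv (S : Subgroup G) P) s fun _ => up b then h.choose else 0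

/-- `[v, s] = (x₁(v) β(s), g(x₁(v)² β(s)))` -/
structure IsG (g : F → G) : Prop where
  mem : ∀ x, g x ∈ cv (S : Subgroup G) P
  add : ∀ x y, g (x + y) = g x * g y
  br : ∀ v ∈ zl (S : Subgroup G) P, ∀ s ∈ LS M, eps M (cm v s) = g ((M.e v 0 1) ^ 2 * bet M s)

end defs

section alg

variable {M : NatK F (S : Subgroup G) P (zl (S : Subgroup G) P) (cv (S : Subgroup G) P) 1}

theorem mem_Zp {v : G} : v ∈ Zp M ↔ v ∈ zl (S : Subgroup G) P ∧ M.e v 0 1 = 0 := Iff.rfl

theorem Zp_le : Zp M ≤ zl (S : Subgroup G) P := fun _ h => h.1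

theorem LV_iff {v : G} : v ∈ LV M ↔ v ∈ Zp M :=
  ⟨fun h => ⟨h.1, h.2 0⟩, fun h => ⟨h.1, fun l => by rw [Fin.eq_zero l]; exact h.2⟩⟩

theorem two_eq (x : F) : x + x = 0 := CharTwo.add_self_eq_zero x

theorem e_add {v w : G} (hv : v ∈ zl (S : Subgroup G) P) (hw : w ∈ zl (S : Subgroup G) P) (i : Fin 2) :
    M.e (v * w) 0 i = M.e v 0 i + M.e w 0 i := by rw [M.mul v hv w hw]; rfl

theorem e_inv' {v : G} (hv : v ∈ zl (S : Subgroup G) P) (i : Fin 2) : M.e v⁻¹ 0 i = M.e v 0 i := by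
  rw [IId.Cv.e_inv M hv, Pi.neg_apply, Pi.neg_apply, CharTwo.neg_eq]

theorem mem_D {v : G} (hv : v ∈ zl (S : Subgroup G) P) :
    v ∈ cv (S : Subgroup G) P ↔ M.e v 0 0 = 0 ∧ M.e v 0 1 = 0 := by
  rw [← M.ker v hv]
  constructor
  · intro h
    rw [h]
    exact ⟨rfl, rfl⟩
  · rintro ⟨h0, h1⟩
    funext l
    rw [Fin.eq_zero l]
    exact NatPair.ext2 h0 h1

theorem e_D {d : G} (hd : d ∈ cv (S : Subgroup G) P) (i : Fin 2) : M.e d 0 i = 0 := by
  rw [IId.Cv.e_cv M hd]; rfl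

theorem D_le_Zp : cv (S : Subgroup G) P ≤ Zp M := fun d hd => ⟨cv_le _ _ hd, e_D hd 1⟩

theorem one1_eq (B : Matrix.SpecialLinearGroup (Fin 2) F) : one1 (0 : Fin 1) B = fun _ => B := by
  funext l
  rw [Fin.eq_zero l, one1_same]

theorem Al_iff {x : G} {B : Matrix.SpecialLinearGroup (Fin 2) F} : Al M 0 x B ↔
    x ∈ P ∧ ActsSL M.e (zl (S : Subgroup G) P) (cv (S : Subgroup G) P) x fun _ => B := by
  rw [Al, one1_eq]

theorem bet_act {s : G} (h : ∃ b : F, ActsSL M.e (zl (S : Subgroup G) P) (cv (S : Subgroup G) P) s fun _ => up b) :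
    ActsSL M.e (zl (S : Subgroup G) P) (cv (S : Subgroup G) P) s fun _ => up (bet M s) := by
  classical
  rw [bet, dif_pos h]
  exact h.choose_spec

theorem up_inj' {b c : F} (h : (up b : Matrix.SpecialLinearGroup (Fin 2) F) = up c) : b = c := by
  have := congrArg (fun A => ent A 0 1) h
  simpa using this

theorem bet_eq {s : G} {b : F} (h : ActsSL M.e (zl (S : Subgroup G) P) (cv (S : Subgroup G) P) s fun _ => up b) :
    bet M s = b := by
  have h1 := acts_unique (M := M) (bet_act ⟨b, h⟩) h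
  exact up_inj' (congrFun h1 0)

end alg

section main

variable {M : NatK F (S : Subgroup G) P (zl (S : Subgroup G) P) (cv (S : Subgroup G) P) 1} (q : Sit F S P 1)
include q

theorem Zp_zc : Zp M ≤ zc (LS M) := fun v hv => LV_le_zc q (LV_iff.2 hv)

theorem Zp_comm {z s : G} (hz : z ∈ Zp M) (hs : s ∈ LS M) : s * z = z * s := (mem_zc.1 (Zp_zc q hz)).2.1 s hs

theorem Zp_eq : Zp M = zl (S : Subgroup G) P ⊓ centralizer (LS M : Set G) := by
  apply le_antisymm
  · intro z hz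
    exact mem_inf.2 ⟨hz.1, mem_centralizer_iff.2 fun s hs => Zp_comm q hz hs⟩
  · intro z hz
    exact LV_iff.1 (mem_LV_of_cent q (mem_inf.1 hz).1 fun s hs => mem_centralizer_iff.1 (mem_inf.1 hz).2 s hs)

theorem Z_le_Zp : zc (S : Subgroup G) ≤ Zp M := fun z hz => LV_iff.1 (zc_S_le q hz)

theorem R_le_Zp : Rt M ≤ Zp M := fun z hz => LV_iff.1 (Zf_LV q hz)

theorem R_le_V : Rt M ≤ zl (S : Subgroup G) P := (R_le_Zp q).trans Zp_le

theorem sqV' {v : G} (hv : v ∈ zl (S : Subgroup G) P) : v * v = 1 := V_sq q hv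

theorem invV {v : G} (hv : v ∈ zl (S : Subgroup G) P) : v⁻¹ = v := inv_eq_of_mul_eq_one_left (V_sq q hv)

theorem P_norm_V : P ≤ normalizer (zl (S : Subgroup G) P : Set G) := le_normalizer_zl _ _

theorem norm_Zp {x : G} (hx : x ∈ P) (hxN : x ∈ normalizer (LS M : Set G)) {z : G} (hz : z ∈ Zp M) :
    x * z * x⁻¹ ∈ Zp M := LV_iff.1 (norm_LV q hx hxN (LV_iff.2 hz))

theorem S_norm_Zp : (S : Subgroup G) ≤ normalizer (Zp M : Set G) :=
  le_normalizer_of fun s hs z hz => norm_Zp q (q.h.le hs) (S_le_normalizer_LS q.h.le hs) hz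

theorem Mv0 {g : G} (hg : g ∈ P) : Mv M g 0 0 := by
  obtain ⟨j, hj⟩ := IId.Ns.exists_Mv (M := M) hg 0
  rwa [Fin.eq_zero j] at hj

theorem S_norm_R : (S : Subgroup G) ≤ normalizer (Rt M : Set G) :=
  le_normalizer_of fun s hs z hz => (conj_Zf_S q hs (Mv0 q (q.h.le hs))).1 hz

/-- upper triangular elements normalise `R` -/
theorem tri_norm_R {x : G} (hx : x ∈ P) {B : Matrix.SpecialLinearGroup (Fin 2) F} (hB : ent B 1 0 = 0)
    (hA : ActsSL M.e (zl (S : Subgroup G) P) (cv (S : Subgroup G) P) x fun _ => B) {z : G} (hz : z ∈ Rt M) :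
    x * z * x⁻¹ ∈ Rt M := conj_Zf_Al q (Al_iff.2 ⟨hx, hA⟩) hB hz

theorem R_inf_D {z : G} (hz : z ∈ Rt M) (hD : z ∈ cv (S : Subgroup G) P) : z = 1 :=
  eq_one_of_Zf q hz (e_D hD 0)

theorem R_eq_one {z : G} (hz : z ∈ Rt M) (h0 : M.e z 0 0 = 0) : z = 1 := eq_one_of_Zf q hz h0

theorem R_inj {z w : G} (hz : z ∈ Rt M) (hw : w ∈ Rt M) (h0 : M.e z 0 0 = M.e w 0 0) : z = w := Zf_inj q hz hw h0

theorem exists_R (c : F) : ∃ z ∈ Rt M, M.e z 0 0 = c := by
  obtain ⟨z, hz, h⟩ := exists_Zf q (M := M) 0 c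
  exact ⟨z, hz, by rw [h]; rfl⟩

/-- `Z⁺ = R × D` -/
theorem exists_rd {z : G} (hz : z ∈ Zp M) : ∃ r ∈ Rt M, ∃ d ∈ cv (S : Subgroup G) P, z = r * d := by
  obtain ⟨r, hr, h⟩ := exists_R (M := M) q (M.e z 0 0)
  refine ⟨r, hr, r⁻¹ * z, ?_, by group⟩
  have hrV := R_le_V q hr
  rw [mem_D (M := M) (mul_mem (inv_mem hrV) hz.1), e_add (inv_mem hrV) hz.1, e_add (inv_mem hrV) hz.1, e_inv' hrV,
    e_inv' hrV, h, two_eq, hz.2, (R_le_Zp q hr).2, two_eq]
  exact ⟨rfl, rfl⟩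

/-! ### the projection -/

theorem eps_spec {z : G} (hz : z ∈ Zp M) : eps M z ∈ cv (S : Subgroup G) P ∧ z * eps M z ∈ Rt M := by
  classical
  have h : ∃ d ∈ cv (S : Subgroup G) P, z * d ∈ Rt M := by
    obtain ⟨r, hr, d, hd, h⟩ := exists_rd q hz
    refine ⟨d, hd, ?_⟩
    rw [h, mul_assoc, V_sq q (cv_le _ _ hd), mul_one]
    exact hr
  rw [eps, dif_pos h]
  exact h.choose_spec

theorem eps_mem {z : G} (hz : z ∈ Zp M) : eps M z ∈ cv (S : Subgroup G) P := (eps_spec q hz).1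

theorem mul_eps {z : G} (hz : z ∈ Zp M) : z * eps M z ∈ Rt M := (eps_spec q hz).2

theorem eps_eq {z d : G} (hz : z ∈ Zp M) (hd : d ∈ cv (S : Subgroup G) P) (h : z * d ∈ Rt M) : eps M z = d := by
  have h1 := mul_eps q hz
  have h2 := eps_mem q hz
  have h3 : (z * eps M z)⁻¹ * (z * d) = (eps M z)⁻¹ * d := by group
  have h4 : (eps M z)⁻¹ * d = 1 := R_inf_D q (h3 ▸ mul_mem (inv_mem h1) h) (mul_mem (inv_mem h2) hd)
  exact inv_mul_eq_one.1 h4

theorem eps_D {d : G} (hd : d ∈ cv (S : Subgroup G) P) : eps M d = d :=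
  eps_eq q (D_le_Zp hd) hd (by rw [V_sq q (cv_le _ _ hd)]; exact one_mem _)

theorem eps_R {r : G} (hr : r ∈ Rt M) : eps M r = 1 :=
  eps_eq q (R_le_Zp q hr) (one_mem _) (by rwa [mul_one])

theorem eps_one : eps M 1 = 1 := eps_R q (one_mem _)

theorem eps_mul {z w : G} (hz : z ∈ Zp M) (hw : w ∈ Zp M) : eps M (z * w) = eps M z * eps M w := by
  refine eps_eq q (mul_mem hz hw) (mul_mem (eps_mem q hz) (eps_mem q hw)) ?_
  have h1 : w * eps M z = eps M z * w := V_comm q hw.1 (cv_le _ _ (eps_mem q hz))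
  have h2 : z * w * (eps M z * eps M w) = (z * eps M z) * (w * eps M w) := by
    calc z * w * (eps M z * eps M w) = z * (w * eps M z) * eps M w := by group
      _ = z * (eps M z * w) * eps M w := by rw [h1]
      _ = _ := by group
  rw [h2]
  exact mul_mem (mul_eps q hz) (mul_eps q hw)

theorem eps_eq_one {z : G} (hz : z ∈ Zp M) : eps M z = 1 ↔ z ∈ Rt M := by
  refine ⟨fun h => ?_, fun h => eps_R q h⟩
  have := mul_eps q hz
  rwa [h, mul_one] at this

/-- elements of `Z⁺` are determined by `x₀` and `ε` -/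
theorem eq_of_coord {z w : G} (hz : z ∈ Zp M) (hw : w ∈ Zp M) (h0 : M.e z 0 0 = M.e w 0 0) (h1 : eps M z = eps M w) :
    z = w := by
  have hzD := cv_le _ _ (eps_mem q hz)
  have h2 : z * eps M z = w * eps M w := by
    refine R_inj q (mul_eps q hz) (mul_eps q hw) ?_
    rw [e_add hz.1 hzD, e_add hw.1 (cv_le _ _ (eps_mem q hw)), h0, h1]
  rw [h1] at h2
  exact mul_right_cancel h2

/-- equivariance -/
theorem eps_conj {g : G} (hg : g ∈ P) (hgR : ∀ r ∈ Rt M, g * r * g⁻¹ ∈ Rt M) {z : G} (hz : z ∈ Zp M)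
    (hz' : g * z * g⁻¹ ∈ Zp M) : eps M (g * z * g⁻¹) = g * eps M z * g⁻¹ := by
  refine eps_eq q hz' (conj_mem_cv hg (eps_mem q hz)) ?_
  have h2 : g * z * g⁻¹ * (g * eps M z * g⁻¹) = g * (z * eps M z) * g⁻¹ := by group
  rw [h2]
  exact hgR _ (mul_eps q hz)

theorem eps_S {s : G} (hs : s ∈ (S : Subgroup G)) {z : G} (hz : z ∈ Zp M) :
    eps M (s * z * s⁻¹) = s * eps M z * s⁻¹ :=
  eps_conj q (q.h.le hs) (fun r hr => (conj_Zf_S q hs (Mv0 q (q.h.le hs))).1 hr) hz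
    (conj_mem_of_mem (S_norm_Zp q hs) hz)

/-! ### the torus -/

/-- the torus elements -/
theorem tor {t : F} (ht : t ≠ 0) : ∃ x ∈ P, x ∈ normalizer (LS M : Set G) ∧
    ActsSL M.e (zl (S : Subgroup G) P) (cv (S : Subgroup G) P) x fun _ => dg t ht :=
  exists_norm q (fun _ => dg t ht) fun _ => by simp

/-- elements of `SL₂(F)` type normalising `Z⁺` do not change `ε` -/
theorem eps_tri {x : G} (hx : x ∈ P) (hxN : x ∈ normalizer (LS M : Set G))
    {B : Matrix.SpecialLinearGroup (Fin 2) F}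
    (hA : ActsSL M.e (zl (S : Subgroup G) P) (cv (S : Subgroup G) P) x fun _ => B) {z : G} (hz : z ∈ Zp M) :
    eps M (x * z * x⁻¹) = eps M z := by
  have hB := tri_of_norm q hx hxN hA 0
  rw [eps_conj q hx (fun r hr => tri_norm_R q hx hB hA hr) hz (norm_Zp q hx hxN hz), hA.2 _ (eps_mem q hz)]
  group

/-! ### `β` -/

theorem bet_LS {s : G} (hs : s ∈ LS M) :
    ActsSL M.e (zl (S : Subgroup G) P) (cv (S : Subgroup G) P) s fun _ => up (bet M s) := by
  obtain ⟨b, hb⟩ := exists_b q.h.le hs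
  refine bet_act ⟨b 0, ?_⟩
  have h1 : (fun i => up (b i)) = fun _ : Fin 1 => (up (b 0) : Matrix.SpecialLinearGroup (Fin 2) F) := by
    funext i
    rw [Fin.eq_zero i]
  rwa [h1] at hb

theorem bet_mul {s t : G} (hs : s ∈ LS M) (ht : t ∈ LS M) : bet M (s * t) = bet M s + bet M t := by
  refine bet_eq ?_
  have h1 := IId.Ns.acts_mul M (q.h.le hs.1) (q.h.le ht.1) (bet_LS q hs) (bet_LS q ht)
  rwa [show (fun _ : Fin 1 => up (bet M s) * up (bet M t)) = fun _ => up (bet M s + bet M t) from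
    funext fun _ => up_mul _ _] at h1

theorem bet_one : bet M 1 = 0 := by
  refine bet_eq ?_
  rw [up_zero]
  exact IId.Ns.acts_one M

theorem bet_surj (b : F) : ∃ s ∈ LS M, bet M s = b := by
  obtain ⟨t, ht, h⟩ := M.unip fun _ => b
  exact ⟨t, mem_LS q.h.le ht h, bet_eq h⟩

/-- `β(s) = 0` iff `s` centralises `V` -/
theorem bet_eq_zero {s : G} (hs : s ∈ LS M) :
    bet M s = 0 ↔ s ∈ centralizer (zl (S : Subgroup G) P : Set G) := by
  constructor
  · intro h
    have h1 := bet_LS q hs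
    rw [h, up_zero] at h1
    have h2 := IId.Ns.same_V q.hG S q.h q.hk M (q.h.le hs.1) (one_mem P) h1 (IId.Ns.acts_one M)
    rw [mem_centralizer_iff]
    intro v hv
    have h3 := h2 v hv
    rw [one_mul, inv_one, mul_one] at h3
    calc v * s = (s * v * s⁻¹) * s := by rw [h3]
      _ = s * v := by group
  · intro h
    refine bet_eq ?_
    rw [up_zero]
    refine ⟨fun v hv i => ?_, fun d hd => (mem_centralizer_iff.1 h d (cv_le _ _ hd)).symm⟩
    rw [← mem_centralizer_iff.1 h v hv, mul_inv_cancel_right, ap_one]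

/-! ### the commutators -/

theorem V_LS : zl (S : Subgroup G) P ≤ LS M := V_le_LS q

theorem e_cm {v s : G} (hv : v ∈ zl (S : Subgroup G) P) (hs : s ∈ LS M) :
    cm v s ∈ Zp M ∧ M.e (cm v s) 0 0 = M.e v 0 1 * bet M s := by
  have hsP := q.h.le hs.1
  have h1 : s * v⁻¹ * s⁻¹ ∈ zl (S : Subgroup G) P := conj_mem_zl hsP (inv_mem hv)
  have e1 : cm v s = v * (s * v⁻¹ * s⁻¹) := by rw [cm_def]; group
  have h2 := (bet_LS q hs).1 _ (inv_mem hv) 0
  have h3 : M.e (s * v⁻¹ * s⁻¹) 0 0 = M.e v 0 0 + bet M s * M.e v 0 1 := by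
    rw [h2, IId.Ns.ap_up2, e_inv' hv, e_inv' hv]; rfl
  have h4 : M.e (s * v⁻¹ * s⁻¹) 0 1 = M.e v 0 1 := by
    rw [h2, IId.Ns.ap_up2]
    change M.e v⁻¹ 0 1 = _
    rw [e_inv' hv]
  refine ⟨⟨?_, ?_⟩, ?_⟩
  · rw [e1]; exact mul_mem hv h1
  · rw [e1, e_add hv h1, h4, two_eq]
  · rw [e1, e_add hv h1, h3, ← add_assoc, two_eq, zero_add, mul_comm]

/-- `[v, s]` depends only on `x₁(v)` and on the action of `s` -/
theorem cm_congr {w w' x x' : G} (hw : w ∈ zl (S : Subgroup G) P) (hw' : w' ∈ zl (S : Subgroup G) P) (hx : x ∈ P)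
    (hx' : x' ∈ P) (h1 : M.e w 0 1 = M.e w' 0 1) {b : F}
    (hb : ActsSL M.e (zl (S : Subgroup G) P) (cv (S : Subgroup G) P) x fun _ => up b)
    (hb' : ActsSL M.e (zl (S : Subgroup G) P) (cv (S : Subgroup G) P) x' fun _ => up b) : cm w x = cm w' x' := by
  have h3 : ∀ y ∈ zl (S : Subgroup G) P, x * y * x⁻¹ = x' * y * x'⁻¹ :=
    IId.Ns.same_V q.hG S q.h q.hk M hx hx' hb hb'
  have h4 : w'⁻¹ * w ∈ Zp M := by
    refine ⟨mul_mem (inv_mem hw') hw, ?_⟩
    rw [e_add (inv_mem hw') hw, e_inv' hw', h1, two_eq]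
  set z := w'⁻¹ * w with hz
  have h5 : w = w' * z := by rw [hz]; group
  have h7 : x * z * x⁻¹ = z := comm_LV q hx hb (LV_iff.2 h4)
  have h7' : x * z⁻¹ * x⁻¹ = z⁻¹ := by
    calc x * z⁻¹ * x⁻¹ = (x * z * x⁻¹)⁻¹ := by group
      _ = z⁻¹ := by rw [h7]
  have h6 : cm w x = cm w' x := by
    rw [h5, cm_def, cm_def, mul_inv_rev]
    calc w' * z * x * (z⁻¹ * w'⁻¹) * x⁻¹ = w' * z * (x * z⁻¹ * x⁻¹) * x * w'⁻¹ * x⁻¹ := by group
      _ = w' * z * z⁻¹ * x * w'⁻¹ * x⁻¹ := by rw [h7']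
      _ = w' * x * w'⁻¹ * x⁻¹ := by group
  rw [h6]
  have h8 : cm w' x = w' * (x * w'⁻¹ * x⁻¹) := by rw [cm_def]; group
  have h9 : cm w' x' = w' * (x' * w'⁻¹ * x'⁻¹) := by rw [cm_def]; group
  rw [h8, h9, h3 _ (inv_mem hw')]

theorem exists_v1 : ∃ v ∈ zl (S : Subgroup G) P, M.e v 0 0 = 0 ∧ M.e v 0 1 = 1 := by
  obtain ⟨v, hv, h⟩ := M.surj fun _ => ![0, 1]
  exact ⟨v, hv, by rw [h]; rfl, by rw [h]; rfl⟩

/-- **`[v, s] = (x₁(v) β(s), g(x₁(v)² β(s)))`** -/
theorem exists_isG : ∃ g : F → G, IsG M g := by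
  classical
  obtain ⟨v1, hv1, -, he1⟩ := exists_v1 (M := M) q
  choose s hs hsβ using bet_surj (M := M) q
  refine ⟨fun x => eps M (cm v1 (s x)), fun x => eps_mem q (e_cm q hv1 (hs x)).1, fun x y => ?_, fun v hv u hu => ?_⟩
  · have hsx := hs x
    have hsy := hs y
    have h1 : cm v1 (s (x + y)) = cm v1 (s x * s y) := by
      refine cm_congr (M := M) q hv1 hv1 (q.h.le (hs _).1) (q.h.le (mul_mem hsx hsy).1) rfl (b := x + y) ?_ ?_
      · have := bet_LS q (hs (x + y))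
        rwa [hsβ] at this
      · have := bet_LS q (mul_mem hsx hsy)
        rwa [bet_mul q hsx hsy, hsβ, hsβ] at this
    have h2 : cm v1 (s x * s y) = cm v1 (s x) * cm v1 (s y) := by
      have h3 := (e_cm q hv1 hsy).1
      have h4 : s x * cm v1 (s y) = cm v1 (s y) * s x := Zp_comm q h3 hsx
      have e1 : cm v1 (s x * s y) = cm v1 (s x) * (s x * cm v1 (s y) * (s x)⁻¹) := by simp only [cm_def]; group
      rw [e1, h4, mul_inv_cancel_right]
    change eps M (cm v1 (s (x + y))) = eps M (cm v1 (s x)) * eps M (cm v1 (s y))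
    rw [h1, h2, eps_mul q (e_cm q hv1 hsx).1 (e_cm q hv1 hsy).1]
  · set c := M.e v 0 1 with hc
    by_cases hne : c = 0
    · -- `v ∈ Z⁺`
      have h1 : cm v u = 1 := by
        have h2 := Zp_comm q (⟨hv, hne⟩ : v ∈ Zp M) hu
        rw [cm_def, ← h2]; group
      have h0 : c ^ 2 * bet M u = 0 := by rw [hne, zero_pow two_ne_zero, zero_mul]
      have h2 : cm v1 (s 0) = 1 := by
        have h3 := cm_congr (M := M) q hv1 hv1 (q.h.le (hs 0).1) (one_mem P) rfl (b := 0) (by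
          have := bet_LS q (hs 0)
          rwa [hsβ] at this) (by rw [up_zero]; exact IId.Ns.acts_one M)
        rw [h3, cm_def]; group
      change eps M (cm v u) = eps M (cm v1 (s (c ^ 2 * bet M u)))
      rw [h0, h1, h2]
    · obtain ⟨t, htP, htN, hta⟩ := tor (M := M) q hne
      have h1 := (e_cm q hv hu).1
      have h2 : t * cm v u * t⁻¹ = cm (t * v * t⁻¹) (t * u * t⁻¹) := by simp only [cm_def]; group
      have hvt : t * v * t⁻¹ ∈ zl (S : Subgroup G) P := conj_mem_zl htP hv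
      have huP := q.h.le hu.1
      have h3 : cm (t * v * t⁻¹) (t * u * t⁻¹) = cm v1 (s (c ^ 2 * bet M u)) := by
        refine cm_congr (M := M) q hvt hv1 (mul_mem (mul_mem htP huP) (inv_mem htP)) (q.h.le (hs _).1) ?_
          (b := c ^ 2 * bet M u) ?_ ?_
        · rw [hta.1 v hv 0, NatPair.ap_one', dg_10, dg_11, zero_mul, zero_add, he1, ← hc, inv_mul_cancel₀ hne]
        · have h4 := IId.Ns.acts_mul M (mul_mem htP huP) (inv_mem htP) (IId.Ns.acts_mul M htP huP hta (bet_LS q hu))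
            (IId.Ns.acts_inv M htP hta)
          rwa [show (fun _ : Fin 1 => dg c hne * up (bet M u) * (dg c hne)⁻¹) = fun _ => up (c ^ 2 * bet M u) from
            funext fun _ => by rw [dg_up, mul_inv_cancel_right]] at h4
        · have := bet_LS q (hs (c ^ 2 * bet M u))
          rwa [hsβ] at this
      change eps M (cm v u) = eps M (cm v1 (s (c ^ 2 * bet M u)))
      rw [← h3, ← h2, eps_tri q htP htN hta h1]

end main

end Cfsg.Agent.Omega.NOThreeL.RF

end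

section


/-!
# NO-3L, `R ∩ (A)`, `k = 1`, fields (`NsF`): `V = [V, O²(P)] E` in coordinates, `D = g(F) E`

`M : NatK F S P V D 1`, `g : F → D` with `[v, s] = (x₁(v) β(s), g(x₁(v)² β(s)))` (`IsG M g`).

* `exists_PL_S` : `P = P^L S`;
* `cm_mem_sup` : `[v, s] ∈ R · g(F)` for `v ∈ V`, `s ∈ S₀`;
* **`exists_g`** : every `d ∈ D` is `g(x) e` with `e ∈ D ∩ Z`.
-/

set_option autoImplicit false
set_option linter.unusedSectionVars false
set_option linter.unusedVariables false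

namespace Cfsg.Agent.Omega.NOThreeL.RF

open Subgroup Cfsg Cfsg.Agent.Omega.MinPar
open Cfsg.Agent.ZN (zc zl o2)
open Cfsg.Agent.Omega.Frame
open Cfsg.Agent.Omega.NoFF.Basic (conj_conj mem_conj conj_le_iff conj_le_centralizer comm_symm comm_mono)
open Cfsg.Agent.MinSimple.VModule (zl_le zc_le_zl le_normalizer_zl zc_le o2_isPGroup le_normalizer_o2 le_o2
  normalizer_le_normalizer_zc mem_zc)
open Cfsg.Agent.Omega.NOThreeL (mem_normalizer_of_conj_eq le_normalizer_of mem_sup_of_comm)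
open Cfsg.Agent.Omega.NOThreeL.RTools (cm cm_def conj_mem_of_mem)
open Cfsg.Agent.Omega.FFThm (NatK ActsSL)
open Cfsg.Agent.Omega.FrameFF (cv)
open Cfsg.Agent.Omega.HOne (cv_le conj_mem_zl conj_mem_cv)
open Cfsg.Agent.Omega.IId.Ns (Al Mv one1 one1_same one1_ne exists_omega)
open Cfsg.Agent.Omega.IId.ThmCQ.Nsp
open Cfsg.Agent.Lib.SL2Mat
open Cfsg.Agent.Omega.NatPair (ap ap_mul ap_one ap_inv_ap)
open scoped Pointwise

universe u

variable {G : Type u} [Group G] [Finite G] {F : Type} [Field F] [Finite F] [CharP F 2] {S : Sylow 2 G} {P : Subgroup G}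
variable {M : NatK F (S : Subgroup G) P (zl (S : Subgroup G) P) (cv (S : Subgroup G) P) 1} (q : Sit F S P 1)

/-! ### `P = P^L S` -/

theorem exists_PL_S (hSP : (S : Subgroup G) ≤ P) {x : G} (hx : x ∈ P) :
    ∃ y ∈ PL M, ∃ s ∈ (S : Subgroup G), x = y * s := by
  have h1 : P ≤ PL M ⊔ (S : Subgroup G) := M.gen _ le_sup_right fun h hh A hA =>
    (le_sup_left : PL M ≤ PL M ⊔ (S : Subgroup G)) ⟨hh, A, hA⟩
  have h2 : x ∈ ((PL M ⊔ (S : Subgroup G) : Subgroup G) : Set G) := h1 hx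
  rw [coe_mul_of_right_le_normalizer_left _ _ (hSP.trans PL_normal)] at h2
  obtain ⟨y, hy, s, hs, rfl⟩ := Set.mem_mul.mp h2
  exact ⟨y, hy, s, hs, rfl⟩

/-- `D ∩ Z` is centralised by `P` -/
theorem DZ_cent (M : NatK F (S : Subgroup G) P (zl (S : Subgroup G) P) (cv (S : Subgroup G) P) 1)
    (hSP : (S : Subgroup G) ≤ P) {d x : G} (hd : d ∈ cv (S : Subgroup G) P)
    (hz : d ∈ zc (S : Subgroup G)) (hx : x ∈ P) : x * d * x⁻¹ = d := by
  obtain ⟨y, ⟨hy, A, hA⟩, s, hs, rfl⟩ := exists_PL_S (M := M) hSP hx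
  calc y * s * d * (y * s)⁻¹ = y * (s * d) * s⁻¹ * y⁻¹ := by group
    _ = (y * d) * y⁻¹ := by rw [(mem_zc.1 hz).2.1 s hs]; group
    _ = d := by rw [hA.2 d hd, mul_inv_cancel_right]

/-! ### `g` -/

theorem IsG.zero {g : F → G} (hg : IsG M g) : g 0 = 1 := by
  have h1 := hg.add 0 0
  rw [add_zero] at h1
  exact left_eq_mul.1 h1

include q in
/-- `g(F) E` -/
def Dg {g : F → G} (hg : IsG M g) : Subgroup G where
  carrier := {d | ∃ x : F, ∃ e ∈ cv (S : Subgroup G) P ⊓ zc (S : Subgroup G), d = g x * e}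
  one_mem' := ⟨0, 1, one_mem _, by rw [hg.zero, mul_one]⟩
  mul_mem' := by
    rintro _ _ ⟨x, e, he, rfl⟩ ⟨y, f, hf, rfl⟩
    refine ⟨x + y, e * f, mul_mem he hf, ?_⟩
    rw [hg.add]
    have h1 : e * g y = g y * e := V_comm q (cv_le _ _ he.1) (cv_le _ _ (hg.mem y))
    calc g x * e * (g y * f) = g x * (e * g y) * f := by group
      _ = g x * (g y * e) * f := by rw [h1]
      _ = _ := by group
  inv_mem' := by
    rintro _ ⟨x, e, he, rfl⟩
    refine ⟨x, e, he, invV q (mul_mem (cv_le _ _ (hg.mem x)) (cv_le _ _ he.1))⟩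

section main

variable {g : F → G} (hg : IsG M g)
include q hg

theorem g_mem_Dg (x : F) : g x ∈ Dg q hg := ⟨x, 1, one_mem _, by rw [mul_one]⟩

theorem Dg_le : Dg q hg ≤ cv (S : Subgroup G) P := by
  rintro _ ⟨x, e, he, rfl⟩
  exact mul_mem (hg.mem x) he.1

/-- `[v, s] = r · g(x₁(v)² β(s))`, `r ∈ R` -/
theorem exists_cm {v s : G} (hv : v ∈ zl (S : Subgroup G) P) (hs : s ∈ LS M) :
    ∃ r ∈ Rt M, M.e r 0 0 = M.e v 0 1 * bet M s ∧ cm v s = r * g (M.e v 0 1 ^ 2 * bet M s) := by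
  obtain ⟨h1, h2⟩ := e_cm q hv hs
  have h3 := mul_eps q h1
  have h4 := eps_mem q h1
  rw [hg.br v hv s hs] at h3 h4
  refine ⟨_, h3, ?_, ?_⟩
  · rw [e_add h1.1 (cv_le _ _ h4), h2, e_D h4, add_zero]
  · rw [mul_assoc, V_sq q (cv_le _ _ h4), mul_one]

theorem cm_mem_sup {v s : G} (hv : v ∈ zl (S : Subgroup G) P) (hs : s ∈ LS M) : cm v s ∈ Rt M ⊔ Dg q hg := by
  obtain ⟨r, hr, -, h⟩ := exists_cm q hg hv hs
  rw [h]
  exact mul_mem ((le_sup_left : Rt M ≤ _) hr) ((le_sup_right : Dg q hg ≤ _) (g_mem_Dg q hg _))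

/-- the conjugates of `R` -/
theorem conj_R_mem {n : G} (hn : n ∈ P)
    (hnA : ActsSL M.e (zl (S : Subgroup G) P) (cv (S : Subgroup G) P) n fun _ => wm 1 one_ne_zero) {x : G} (hx : x ∈ P)
    {r : G} (hr : r ∈ Rt M) : x * r * x⁻¹ ∈ MulAut.conj n • Rt M ⊔ (Rt M ⊔ Dg q hg) := by
  obtain ⟨y, ⟨hy, A, hA⟩, s, hs, rfl⟩ := exists_PL_S (M := M) q.h.le hx
  have hr' : s * r * s⁻¹ ∈ Rt M := conj_mem_of_mem (S_norm_R q hs) hr
  have e1 : y * s * r * (y * s)⁻¹ = y * (s * r * s⁻¹) * y⁻¹ := by group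
  rw [e1]
  generalize s * r * s⁻¹ = r' at hr'
  have hA0 : A = fun _ => A 0 := funext fun i => by rw [Fin.eq_zero i]
  rw [hA0] at hA
  by_cases h0 : ent (A 0) 1 0 = 0
  · exact (le_sup_left.trans le_sup_right : Rt M ≤ _) (tri_norm_R q hy h0 hA hr')
  · -- `A 0 = up a * w * B'`
    obtain ⟨t, ht, hta⟩ := bet_surj (M := M) q (ent (A 0) 0 0 / ent (A 0) 1 0)
    have htA := bet_LS q ht
    rw [hta] at htA
    have htP := q.h.le ht.1
    have h1 := IId.Ns.acts_mul M (inv_mem hn) (mul_mem (inv_mem htP) hy) (IId.Ns.acts_inv M hn hnA)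
      (IId.Ns.acts_mul M (inv_mem htP) hy (IId.Ns.acts_inv M htP htA) hA)
    have hB : ent ((wm 1 one_ne_zero)⁻¹ * ((up (ent (A 0) 0 0 / ent (A 0) 1 0))⁻¹ * A 0)) 1 0 = 0 := by
      rw [up_inv, ent_inv (wm (1 : F) one_ne_zero), ent_mul, ent_mul, ent_mul, mk_10, mk_11, up_00, up_01, up_10,
        up_11, wm_00, wm_10]
      field_simp
      ring
    have h2 := tri_norm_R q (mul_mem (inv_mem hn) (mul_mem (inv_mem htP) hy)) hB h1 hr'
    obtain ⟨r'', hr''⟩ : ∃ r'', r'' = n⁻¹ * (t⁻¹ * y) * r' * (n⁻¹ * (t⁻¹ * y))⁻¹ := ⟨_, rfl⟩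
    rw [← hr''] at h2
    have e2 : y * r' * y⁻¹ = t * (n * r'' * n⁻¹) * t⁻¹ := by rw [hr'']; group
    have hv : n * r'' * n⁻¹ ∈ zl (S : Subgroup G) P := conj_mem_zl hn (R_le_V q h2)
    have h3 := cm_mem_sup q hg hv ht
    have hcV : cm (n * r'' * n⁻¹) t ∈ zl (S : Subgroup G) P := (e_cm q hv ht).1.1
    have e3 : t * (n * r'' * n⁻¹) * t⁻¹ = (n * r'' * n⁻¹) * cm (n * r'' * n⁻¹) t := by
      have h4 := invV q hcV
      have h5 : t * (n * r'' * n⁻¹) * t⁻¹ = (cm (n * r'' * n⁻¹) t)⁻¹ * (n * r'' * n⁻¹) := by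
        rw [cm_def]; group
      rw [h5, h4, V_comm q hcV hv]
    rw [e2, e3]
    refine mul_mem ((le_sup_left : MulAut.conj n • Rt M ≤ _) ?_) ((le_sup_right : Rt M ⊔ Dg q hg ≤ _) h3)
    rw [mem_conj]
    have e4 : n⁻¹ * (n * r'' * n⁻¹) * n = r'' := by group
    rwa [e4]

/-- **`D = g(F) E`** -/
theorem exists_g {d : G} (hd : d ∈ cv (S : Subgroup G) P) :
    ∃ x : F, ∃ e ∈ cv (S : Subgroup G) P ⊓ zc (S : Subgroup G), d = g x * e := by
  obtain ⟨n, hn, hnA⟩ := M.lift fun _ => wm (1 : F) one_ne_zero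
  -- `V ≤ W`
  have hV : zl (S : Subgroup G) P ≤ MulAut.conj n • Rt M ⊔ (Rt M ⊔ Dg q hg) := by
    refine NoFF.Basic.V_le (Z := zc (S : Subgroup G)) fun k hk y hy => ?_
    rw [mem_conj] at hy
    obtain ⟨z, hz⟩ : ∃ z, z = k⁻¹ * y * k := ⟨_, rfl⟩
    rw [← hz] at hy
    have hzp : z ∈ Zp M := Z_le_Zp q hy
    have h1 := mul_eps q hzp
    have h2 := eps_mem q hzp
    have h3 : eps M z ∈ zc (S : Subgroup G) := mem_zc.2 ⟨V_le_S q (cv_le _ _ h2), fun s hs => by
      have h4 := eps_S q hs hzp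
      rw [(mem_zc.1 hy).2.1 s hs, mul_inv_cancel_right] at h4
      exact (eq_mul_inv_iff_mul_eq.1 h4).symm, by rw [pow_two, V_sq q (cv_le _ _ h2)]⟩
    have h5 := DZ_cent M q.h.le h2 h3 hk
    have e1 : y = (k * (z * eps M z) * k⁻¹) * eps M z := by
      have e2 : k * (z * eps M z) * k⁻¹ = (k * z * k⁻¹) * (k * eps M z * k⁻¹) := by group
      rw [e2, h5, mul_assoc, V_sq q (cv_le _ _ h2), mul_one, hz]
      group
    rw [e1]
    exact mul_mem (conj_R_mem q hg hn hnA hk h1) ((le_sup_right.trans le_sup_right : Dg q hg ≤ _)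
      ⟨0, _, mem_inf.2 ⟨h2, h3⟩, by rw [hg.zero, one_mul]⟩)
  have hRV : MulAut.conj n • Rt M ≤ zl (S : Subgroup G) P := by
    intro x hx
    rw [mem_conj] at hx
    have := conj_mem_zl (S := (S : Subgroup G)) hn (R_le_V q hx)
    have e : n * (n⁻¹ * x * n) * n⁻¹ = x := by group
    rwa [e] at this
  have hDV : Dg q hg ≤ zl (S : Subgroup G) P := (Dg_le q hg).trans (cv_le _ _)
  have h1 := hV (cv_le _ _ hd)
  obtain ⟨a, ha, b, hb, hab⟩ := mem_sup_of_comm (fun x hx => mem_centralizer_iff.2 fun y hy =>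
    V_comm q ((sup_le (R_le_V q) hDV : Rt M ⊔ Dg q hg ≤ _) hy) (hRV hx)) h1
  obtain ⟨r, hr, d', hd', hrd⟩ := mem_sup_of_comm (fun x hx => mem_centralizer_iff.2 fun y hy =>
    V_comm q (hDV hy) (R_le_V q hx)) hb
  have ha' : n⁻¹ * a * n ∈ Rt M := mem_conj.1 ha
  have hrV := R_le_V q hr
  have hdD := Dg_le q hg hd'
  have hdV := cv_le _ _ hdD
  have haV := hRV ha
  have ea : a = n * (n⁻¹ * a * n) * n⁻¹ := by group
  have h2 : M.e a 0 1 = - M.e (n⁻¹ * a * n) 0 0 := by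
    conv_lhs => rw [ea]
    rw [hnA.1 _ (R_le_V q ha') 0, NatPair.ap_one', wm_10, wm_11, (R_le_Zp q ha').2]
    simp
  have h3 : M.e d 0 1 = M.e a 0 1 := by
    rw [← hab, ← hrd, e_add haV (mul_mem hrV hdV), e_add hrV hdV, (R_le_Zp q hr).2, e_D hdD, add_zero, add_zero]
  have h4 : n⁻¹ * a * n = 1 := by
    refine R_eq_one q ha' ?_
    rw [h2, e_D hd] at h3
    exact neg_eq_zero.1 h3.symm
  have h5 : a = 1 := by rw [ea, h4]; group
  have h6 : M.e d 0 0 = M.e r 0 0 := by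
    rw [← hab, ← hrd, h5, one_mul, e_add hrV hdV, e_D hdD, add_zero]
  have h7 : r = 1 := R_eq_one q hr (by rw [← h6, e_D hd])
  rw [h5, one_mul] at hab
  rw [h7, one_mul] at hrd
  rw [← hab, ← hrd]
  exact hd'

end main

end Cfsg.Agent.Omega.NOThreeL.RF

end

section


/-!
# NO-3L, box R, case (A), `NsF` : `O₂(H) ≤ S₀` and `Z⁺ ≤ Ω₁ Z(O₂(H)) ≤ S₀`

`M : NatK F S P V D 1`, `q : Nsp.Sit F S P 1`, `S₀ = LS M`, `Z⁺ = Zp M`.

* `mem_LS_of_line` : an element of `S` trivial on the line of `V / D` is in `S₀`;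
* `o2_le` : `HypM S P H`, `U_H ≤ S₀` imply `O₂(H) ≤ S₀`; `Zp_le` : `Z⁺ ≤ Ω₁ Z(O₂(H))`; `zc_le_LS` :
  `Ω₁ Z(O₂(H)) ≤ S₀`; `H_norm` : `H` normalises `Ω₁ Z(O₂(H))`.
-/

set_option autoImplicit false
set_option linter.unusedSectionVars false

namespace Cfsg.Agent.Omega.NOThreeL.NsF

open Subgroup Cfsg Cfsg.Agent.Omega.MinPar
open Cfsg.Agent.ZN (zc zl o2)
open Cfsg.Agent.Omega.Frame Cfsg.Agent.Omega.FrameNOFF
open Cfsg.Agent.Omega.Node.NO3L Cfsg.Agent.Omega.NOThreeL.Basic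
open Cfsg.Agent.Omega.NOThreeL.RTools (cm cm_def conj_mem_of_mem)
open Cfsg.Agent.Omega.FFThm (NatK ActsSL)
open Cfsg.Agent.Omega.FrameFF (cv)
open Cfsg.Agent.Omega.HOne (cv_le conj_mem_zl conj_mem_cv)
open Cfsg.Agent.Omega.IId.ThmCQ.Nsp
open Cfsg.Agent.Omega.NOThreeL.RF
open Cfsg.Agent.Lib.SL2Mat
open Cfsg.Agent.Omega.NatPair (ap ap_mul ap_one ap_inv_ap)
open Cfsg.Agent.MinSimple.VModule (mem_zc o2_isPGroup le_normalizer_o2 le_o2)
open scoped Pointwise

universe u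

variable {G : Type u} [Group G] [Finite G] {F : Type} [Field F] [Finite F] [CharP F 2] {S : Sylow 2 G}
  {P H : Subgroup G} {M : NatK F (S : Subgroup G) P (zl (S : Subgroup G) P) (cv (S : Subgroup G) P) 1}

/-- an element of `S` trivial on the line of `V / D` is in `S₀` -/
theorem mem_LS_of_line (q : Sit F S P 1) {s : G} (hs : s ∈ (S : Subgroup G))
    (h : ∀ v ∈ Zp M, M.e (s * v * s⁻¹) 0 0 = M.e v 0 0) : s ∈ LS M := by
  obtain ⟨t, p, x, T⟩ := exists_tor (M := M) q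
  have hsP : s ∈ P := q.h.le hs
  have hsN : s ∈ normalizer (LS M : Set G) := S_le_normalizer_LS q.h.le hs
  refine (T.dat q).field s hs fun l => ?_
  obtain rfl : l = 0 := Fin.eq_zero l
  have hxN := T.nor 0
  obtain ⟨hxP, hxA⟩ := Al_iff.1 (T.al 0)
  set y := x 0 with hy
  obtain ⟨B, hB⟩ := IId.Ns.Sd.acts_conj M hsP hxP hxA
  have hcP : s * y * s⁻¹ ∈ P := mul_mem (mul_mem hsP hxP) (inv_mem hsP)
  have hcN : s * y * s⁻¹ ∈ normalizer (LS M : Set G) := mul_mem (mul_mem hsN hxN) (inv_mem hsN)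
  have h10 : ent (B 0) 1 0 = 0 := tri_of_norm q hcP hcN hB 0
  -- the diagonal of `B`
  have h00 : ent (B 0) 0 0 = t := by
    obtain ⟨v, hv, hv1⟩ := exists_R (M := M) q 1
    have hvZ : v ∈ Zp M := R_le_Zp q hv
    have huZ : s⁻¹ * v * s ∈ Zp M := by
      have h1 := conj_mem_of_mem (S_norm_Zp q (inv_mem hs)) hvZ
      rwa [inv_inv] at h1
    have e1 : s * (s⁻¹ * v * s) * s⁻¹ = v := by group
    have hu := h _ huZ
    rw [e1, hv1] at hu
    have hwZ : y * (s⁻¹ * v * s) * y⁻¹ ∈ Zp M := norm_Zp q hxP hxN huZ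
    have hw := h _ hwZ
    have e2 : s * (y * (s⁻¹ * v * s) * y⁻¹) * s⁻¹ = s * y * s⁻¹ * v * (s * y * s⁻¹)⁻¹ := by group
    rw [e2, hB.1 v (Zp_le hvZ) 0, hxA.1 _ (Zp_le huZ) 0, NatPair.ap_zero', NatPair.ap_zero', hv1, ← hu, hvZ.2,
      huZ.2] at hw
    simpa using hw
  have h11 : ent (B 0) 1 1 = t⁻¹ := by
    have h8 := det_eq (B 0)
    rw [h00, h10, mul_zero, sub_zero] at h8
    exact eq_inv_of_mul_eq_one_right h8
  have hBu : B 0 = up (ent (B 0) 0 1 * t) * dg t T.ne_zero := by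
    apply ext_ent
    · rw [ent_mul, h00]; simp
    · rw [ent_mul]
      simp only [up_00, dg_01, mul_zero, up_01, dg_11, zero_add]
      rw [mul_assoc, mul_inv_cancel₀ T.ne_zero, mul_one]
    · rw [ent_mul, h10]; simp
    · rw [ent_mul, h11]; simp
  have hzA : ActsSL M.e (zl (S : Subgroup G) P) (cv (S : Subgroup G) P) (s * y * s⁻¹ * y⁻¹)
      fun _ => up (ent (B 0) 0 1 * t) := by
    have h1 := IId.Ns.acts_mul M hcP (inv_mem hxP) hB (IId.Ns.acts_inv M hxP hxA)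
    have h2 : (fun i => B i * (dg t T.ne_zero)⁻¹) =
        fun _ : Fin 1 => (up (ent (B 0) 0 1 * t) : Matrix.SpecialLinearGroup (Fin 2) F) := by
      funext i
      obtain rfl : i = 0 := Fin.eq_zero i
      rw [mul_inv_eq_iff_eq_mul]
      exact hBu
    rwa [h2] at h1
  obtain ⟨w, hw, hwA⟩ := M.unip fun _ => ent (B 0) 0 1 * t
  have hwL : w ∈ LS M := mem_LS q.h.le hw hwA
  have hact := act_of_eq q (mul_mem hcP (inv_mem hxP)) (mul_mem hcN (inv_mem hxN)) (q.h.le hw)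
    (Subgroup.le_normalizer hwL) hzA hwA
  intro e he
  have he' : y * s * e * (y * s)⁻¹ ∈ zc (LS M) :=
    conj_mem_of_mem (MinSimple.VModule.normalizer_le_normalizer_zc _ (mul_mem hxN hsN)) he
  have h1 := hact _ he'
  have h2 : w * (y * s * e * (y * s)⁻¹) * w⁻¹ = y * s * e * (y * s)⁻¹ := by
    rw [(mem_zc.1 he').2.1 w hwL, mul_inv_cancel_right]
  rw [h2] at h1
  rw [← h1]
  group

section H

variable (D : HypM S P H) (q : Sit F S P 1) (hU : zl (S : Subgroup G) H ≤ LS M)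
include D q hU

/-- **`O₂(H) ≤ S₀`** -/
theorem o2_le : o2 H ≤ LS M := by
  -- `u ∈ U`, `β(u) ≠ 0`
  obtain ⟨u, hu, hub⟩ : ∃ u ∈ zl (S : Subgroup G) H, bet M u ≠ 0 := by
    by_contra hcon
    push Not at hcon
    refine D.ne ?_
    intro v hv
    rw [mem_centralizer_iff]
    intro u hu
    have h1 := (bet_eq_zero q (hU hu)).1 (hcon u hu)
    exact (mem_centralizer_iff.mp h1 v hv).symm
  intro w hw
  have hwS : w ∈ (S : Subgroup G) := D.long.loc.o2_le S hw
  refine mem_LS_of_line q hwS fun z hz => ?_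
  obtain ⟨v, hv, hvc⟩ : ∃ v ∈ zl (S : Subgroup G) P, M.e v 0 1 = M.e z 0 0 * (bet M u)⁻¹ := by
    obtain ⟨v, hv, h⟩ := M.surj fun _ => ![0, M.e z 0 0 * (bet M u)⁻¹]
    exact ⟨v, hv, by rw [h]; rfl⟩
  obtain ⟨h1, h2⟩ := e_cm q hv (hU hu)
  rw [hvc, inv_mul_cancel_right₀ hub] at h2
  -- `y = [v,u] ∈ U`
  set y := cm v u with hy
  have hyU : y ∈ zl (S : Subgroup G) H := by
    have e1 : y = (v * u * v⁻¹) * u⁻¹ := by rw [hy, cm_def]
    rw [e1]
    exact mul_mem (conj_mem_of_mem (D.HU (D.SH (V_le_S q hv))) hu) (inv_mem hu)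
  have hwy : w * y * w⁻¹ = y := by
    rw [← mem_centralizer_iff.mp (D.o2_cent hw) y hyU, mul_inv_cancel_right]
  have hd : y⁻¹ * z ∈ cv (S : Subgroup G) P := by
    have hmem : y⁻¹ * z ∈ Zp M := mul_mem (inv_mem h1) hz
    refine (mem_D (M := M) (Zp_le hmem)).2 ⟨?_, hmem.2⟩
    rw [e_add (M := M) (Zp_le (inv_mem h1)) (Zp_le hz) 0, e_inv' (M := M) (Zp_le h1) 0, h2]
    exact CharTwo.add_self_eq_zero _
  have hd' : w * (y⁻¹ * z) * w⁻¹ ∈ cv (S : Subgroup G) P := conj_mem_cv (q.h.le hwS) hd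
  have e2 : w * z * w⁻¹ = (w * y * w⁻¹) * (w * (y⁻¹ * z) * w⁻¹) := by group
  rw [e2, hwy, e_add (M := M) (Zp_le h1) (cv_le _ _ hd') 0, h2, e_D hd' 0, add_zero]

/-- `Z⁺ ≤ Ω₁ Z(O₂(H))` -/
theorem Zp_le_zc : Zp M ≤ zc (o2 H) := by
  intro z hz
  have h1 : ∀ w ∈ o2 H, w * z = z * w := fun w hw => Zp_comm q hz (o2_le D q hU hw)
  have hzH : z ∈ H := D.SH (V_le_S q (Zp_le hz))
  have h2 : z ∈ o2 H := by
    refine D.long.loc.char2 S D.hc (mem_inf.mpr ⟨hzH, ?_⟩)
    rw [mem_centralizer_iff]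
    exact h1
  exact mem_zc.mpr ⟨h2, h1, by rw [pow_two]; exact sqV' q (Zp_le hz)⟩

theorem zc_le_LS : zc (o2 H) ≤ LS M := (MinSimple.VModule.zc_le _).trans (o2_le D q hU)

end H

theorem H_norm (H : Subgroup G) : H ≤ normalizer (zc (o2 H) : Set G) :=
  (le_normalizer_o2 H).trans (MinSimple.VModule.normalizer_le_normalizer_zc _)

/-- `C_{S₀}(v) = C_{S₀}(V)` for `v ∈ V - Z⁺` -/
theorem cent_of (q : Sit F S P 1) {v u : G} (hv : v ∈ zl (S : Subgroup G) P) (hvZ : v ∉ Zp M) (hu : u ∈ LS M)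
    (h : v * u = u * v) : ∀ w ∈ zl (S : Subgroup G) P, w * u = u * w := by
  have h1 := (e_cm q hv hu).2
  have h2 : cm v u = 1 := by rw [cm_def, h]; group
  rw [h2, IId.Cv.e_one M] at h1
  have h3 : bet M u = 0 := by
    rcases mul_eq_zero.mp h1.symm with h4 | h4
    · exact absurd ⟨hv, h4⟩ hvZ
    · exact h4
  exact fun w hw => mem_centralizer_iff.mp ((bet_eq_zero q hu).1 h3) w hw

end Cfsg.Agent.Omega.NOThreeL.NsF

end

section


/-!
# NO-3L, box R, case (A), `NsF` ((c) of #22083): the count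

`F` a finite field, `D` a finite abelian group, `th : F →+ D` not zero, `X ≤ F × D` with `X ∩ (0 × D) = 0`. If
`|{f | (c f, th (c² f)) ∈ X}| |D| ≤ |X|` for all `c ≠ 0`, then `X = F × 0` and `th` is surjective (`count`). No
characteristic, no hypothesis on `|F|`.
-/

set_option autoImplicit false
set_option linter.unusedSectionVars false

namespace Cfsg.Agent.Omega.NOThreeL.NsF

open Finset

variable {F : Type*} [Field F] {D : Type*} [AddCommGroup D]

/-- `K_c = {f | (c f, th (c² f)) ∈ X}` -/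
def Kc (th : F →+ D) (X : AddSubgroup (F × D)) (c : F) : AddSubgroup F where
  carrier := {f | (c * f, th (c ^ 2 * f)) ∈ X}
  add_mem' := by
    intro a b ha hb
    have h := X.add_mem ha hb
    rw [Prod.mk_add_mk, ← mul_add, ← map_add, ← mul_add] at h
    exact h
  zero_mem' := by
    change (c * 0, th (c ^ 2 * 0)) ∈ X
    rw [mul_zero, mul_zero, map_zero]
    exact X.zero_mem
  neg_mem' := by
    intro a ha
    have h := X.neg_mem ha
    rw [Prod.neg_mk, ← mul_neg, ← map_neg, ← mul_neg] at h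
    exact h

theorem mem_Kc {th : F →+ D} {X : AddSubgroup (F × D)} {c f : F} :
    f ∈ Kc th X c ↔ (c * f, th (c ^ 2 * f)) ∈ X := Iff.rfl

/-- first projection of `X` -/
abbrev pX (X : AddSubgroup (F × D)) : AddSubgroup F := X.map (AddMonoidHom.fst F D)

/-- `{s | (s, d) ∈ X for some d ∈ th F}` -/
def nuX (th : F →+ D) (X : AddSubgroup (F × D)) : AddSubgroup F where
  carrier := {s | ∃ g, (s, th g) ∈ X}
  add_mem' := by
    rintro a b ⟨g, hg⟩ ⟨g', hg'⟩
    refine ⟨g + g', ?_⟩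
    rw [map_add, ← Prod.mk_add_mk]
    exact X.add_mem hg hg'
  zero_mem' := ⟨0, by rw [map_zero]; exact X.zero_mem⟩
  neg_mem' := by
    rintro a ⟨g, hg⟩
    refine ⟨-g, ?_⟩
    rw [map_neg, ← Prod.neg_mk]
    exact X.neg_mem hg

/-- `{s | (s, 0) ∈ X}` -/
def kapX (X : AddSubgroup (F × D)) : AddSubgroup F where
  carrier := {s | (s, 0) ∈ X}
  add_mem' := by
    intro a b ha hb
    have h := X.add_mem ha hb
    rw [Prod.mk_add_mk, add_zero] at h
    exact h
  zero_mem' := X.zero_mem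
  neg_mem' := by
    intro a ha
    have h := X.neg_mem ha
    rw [Prod.neg_mk, neg_zero] at h
    exact h

section count

variable [Fintype F] [Finite D] {th : F →+ D} {X : AddSubgroup (F × D)}

open Classical in
/-- `|{g | (s, th g) ∈ X}|` is `|ker th|` or `0` -/
theorem card_fib (hX : ∀ d, ((0 : F), d) ∈ X → d = 0) (s : F) :
    (univ.filter fun g : F => (s, th g) ∈ X).card = if s ∈ nuX th X then Nat.card th.ker else 0 := by
  split_ifs with hs
  · obtain ⟨g₀, h₀⟩ := hs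
    have h1 : (univ.filter fun g : F => (s, th g) ∈ X) = (univ.filter fun g : F => g ∈ th.ker).map
        (addLeftEmbedding g₀) := by
      ext g
      simp only [mem_filter, mem_univ, true_and, mem_map, addLeftEmbedding_apply]
      constructor
      · intro h
        refine ⟨g - g₀, ?_, add_sub_cancel g₀ g⟩
        have h2 := X.sub_mem h h₀
        rw [Prod.mk_sub_mk, sub_self, ← map_sub] at h2
        exact hX _ h2
      · rintro ⟨x, hx, rfl⟩
        rw [map_add, (AddMonoidHom.mem_ker.mp hx : th x = 0), add_zero]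
        exact h₀
    rw [h1, card_map, Nat.card_eq_fintype_card, Fintype.card_subtype]
  · rw [card_eq_zero, filter_eq_empty_iff]
    intro g _ hg
    exact hs ⟨g, hg⟩

open Classical in
/-- `∑_{c ≠ 0} |K_c| + |ker n| + |ker th| = |F| + |n⁻¹ (th F)| |ker th|` -/
theorem sum_card (hX : ∀ d, ((0 : F), d) ∈ X → d = 0) :
    (∑ c ∈ univ.erase (0 : F), Nat.card (Kc th X c)) + Nat.card (kapX X) + Nat.card th.ker =
      Fintype.card F + Nat.card (nuX th X) * Nat.card th.ker := by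
  -- for fixed `c`
  have h1 : ∀ c : F, (∑ s : F, if (s, th (c * s)) ∈ X then 1 else 0) =
      if c = 0 then Nat.card (kapX X) else Nat.card (Kc th X c) := by
    intro c
    rw [← card_filter]
    split_ifs with hc
    · subst hc
      rw [Nat.card_eq_fintype_card, Fintype.card_subtype]
      congr 1
      ext s
      simp only [mem_filter, mem_univ, true_and, zero_mul, map_zero]
      exact Iff.rfl
    · rw [Nat.card_eq_fintype_card, Fintype.card_subtype]
      refine card_bij' (fun s _ => c⁻¹ * s) (fun f _ => c * f) ?_ ?_ ?_ ?_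
      · intro s hs
        simp only [mem_filter, mem_univ, true_and] at hs ⊢
        rw [mem_Kc, pow_two, mul_assoc, mul_inv_cancel_left₀ hc]
        exact hs
      · intro f hf
        simp only [mem_filter, mem_univ, true_and] at hf ⊢
        rw [mem_Kc, pow_two, mul_assoc] at hf
        exact hf
      · intro s _
        exact mul_inv_cancel_left₀ hc s
      · intro f _
        exact inv_mul_cancel_left₀ hc f
  -- for fixed `s`
  have h2 : ∀ s : F, (∑ c : F, if (s, th (c * s)) ∈ X then 1 else 0) =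
      if s = 0 then Fintype.card F else if s ∈ nuX th X then Nat.card th.ker else 0 := by
    intro s
    rw [← card_filter]
    split_ifs with hs hs'
    · subst hs
      rw [filter_true_of_mem, card_univ]
      intro c _
      rw [mul_zero, map_zero]
      exact X.zero_mem
    · rw [← (card_fib (th := th) hX s).trans (if_pos hs')]
      refine card_bij' (fun c _ => c * s) (fun g _ => g * s⁻¹) ?_ ?_ ?_ ?_
      · intro c hc
        simpa only [mem_filter, mem_univ, true_and] using hc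
      · intro g hg
        simp only [mem_filter, mem_univ, true_and] at hg ⊢
        rwa [inv_mul_cancel_right₀ hs]
      · intro c _
        exact mul_inv_cancel_right₀ hs c
      · intro g _
        exact inv_mul_cancel_right₀ hs g
    · rw [card_eq_zero, filter_eq_empty_iff]
      intro c _ hc
      exact hs' ⟨_, hc⟩
  have h3 := sum_comm (s := (univ : Finset F)) (t := (univ : Finset F))
    (f := fun c s => if (s, th (c * s)) ∈ X then 1 else 0)
  simp only [h1, h2] at h3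
  have h4 : (∑ c : F, if c = 0 then Nat.card (kapX X) else Nat.card (Kc th X c)) =
      Nat.card (kapX X) + ∑ c ∈ univ.erase (0 : F), Nat.card (Kc th X c) := by
    rw [← add_sum_erase _ _ (mem_univ (0 : F)), if_pos rfl]
    congr 1
    exact sum_congr rfl fun c hc => if_neg (ne_of_mem_erase hc)
  have h5 : (∑ s : F, if s = 0 then Fintype.card F else if s ∈ nuX th X then Nat.card th.ker else 0) +
      Nat.card th.ker = Fintype.card F + Nat.card (nuX th X) * Nat.card th.ker := by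
    rw [← add_sum_erase _ _ (mem_univ (0 : F)), if_pos rfl, add_assoc]
    congr 1
    have h6 : (∑ s ∈ univ.erase (0 : F), if s = 0 then Fintype.card F else
        if s ∈ nuX th X then Nat.card th.ker else 0) =
        ∑ s ∈ univ.erase (0 : F), if s ∈ nuX th X then Nat.card th.ker else 0 :=
      sum_congr rfl fun c hc => if_neg (ne_of_mem_erase hc)
    rw [h6]
    have h7 : (if (0 : F) ∈ nuX th X then Nat.card th.ker else 0) = Nat.card th.ker := if_pos (zero_mem _)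
    have h8 := sum_erase_add univ (fun s : F => if s ∈ nuX th X then Nat.card th.ker else 0) (mem_univ (0 : F))
    rw [h7] at h8
    rw [h8, ← sum_filter, sum_const, smul_eq_mul, Nat.card_eq_fintype_card (α := nuX th X), Fintype.card_subtype]
  rw [h4] at h3
  omega

/-- `|X| |th F| ≤ |n⁻¹ (th F)| |D|` -/
theorem card_nu (hX : ∀ d, ((0 : F), d) ∈ X → d = 0) :
    Nat.card X * Nat.card th.range ≤ Nat.card (nuX th X) * Nat.card D := by
  -- the map `X → D / th F`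
  let f : X →+ D ⧸ th.range := (QuotientAddGroup.mk' th.range).comp ((AddMonoidHom.snd F D).comp X.subtype)
  have h1 : Nat.card f.ker = Nat.card (nuX th X) := by
    refine Nat.card_congr (Equiv.ofBijective (fun x => ⟨x.1.1.1, ?_⟩) ⟨?_, ?_⟩)
    · have h2 := x.2
      rw [AddMonoidHom.mem_ker] at h2
      have h3 : x.1.1.2 ∈ th.range := (QuotientAddGroup.eq_zero_iff _).mp h2
      obtain ⟨g, hg⟩ := h3
      refine ⟨g, ?_⟩
      rw [hg]
      exact x.1.2
    · rintro ⟨⟨⟨s, d⟩, h⟩, h'⟩ ⟨⟨⟨s', d'⟩, k⟩, k'⟩ he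
      have he' : s = s' := congrArg Subtype.val he
      subst he'
      have h2 := X.sub_mem h k
      rw [Prod.mk_sub_mk, sub_self] at h2
      have h3 := sub_eq_zero.mp (hX _ h2)
      subst h3
      rfl
    · rintro ⟨s, g, hg⟩
      refine ⟨⟨⟨(s, th g), hg⟩, ?_⟩, rfl⟩
      rw [AddMonoidHom.mem_ker]
      exact (QuotientAddGroup.eq_zero_iff _).mpr ⟨g, rfl⟩
  have h2 : Nat.card X = Nat.card f.ker * Nat.card f.range := by
    rw [AddSubgroup.card_eq_card_quotient_mul_card_addSubgroup f.ker, mul_comm,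
      Nat.card_congr (QuotientAddGroup.quotientKerEquivRange f).toEquiv]
  have h3 : Nat.card f.range ≤ Nat.card (D ⧸ th.range) := Nat.card_le_card_of_injective _ Subtype.val_injective
  have h4 : Nat.card D = Nat.card (D ⧸ th.range) * Nat.card th.range :=
    AddSubgroup.card_eq_card_quotient_mul_card_addSubgroup _
  rw [h2, h4, h1]
  calc _ ≤ Nat.card (nuX th X) * Nat.card (D ⧸ th.range) * Nat.card th.range :=
        Nat.mul_le_mul_right _ (Nat.mul_le_mul_left _ h3)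
    _ = _ := by ring

/-- **The count** (835's form of #22083 (c)). -/
theorem count_aux (hX : ∀ d, ((0 : F), d) ∈ X → d = 0)
    (h : ∀ c : F, c ≠ 0 → Nat.card (Kc th X c) * Nat.card D ≤ Nat.card X) :
    Fintype.card F * Nat.card D + Nat.card X ≤ (Nat.card (kapX X) + Nat.card th.ker) * Nat.card D := by
  classical
  have h1 := sum_card (th := th) hX
  have h2 := card_nu (th := th) hX
  have h3 : Nat.card th.range * Nat.card th.ker = Fintype.card F := by
    rw [← Nat.card_eq_fintype_card, AddSubgroup.card_eq_card_quotient_mul_card_addSubgroup th.ker,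
      Nat.card_congr (QuotientAddGroup.quotientKerEquivRange th).toEquiv]
  have h4 : (∑ c ∈ univ.erase (0 : F), Nat.card (Kc th X c)) * Nat.card D ≤
      (Fintype.card F - 1) * Nat.card X := by
    rw [sum_mul]
    refine (sum_le_card_nsmul _ _ (Nat.card X) fun c hc => h c (ne_of_mem_erase hc)).trans ?_
    rw [card_erase_of_mem (mem_univ _), card_univ, smul_eq_mul]
  have h5 : Nat.card X * Fintype.card F ≤ Nat.card (nuX th X) * Nat.card th.ker * Nat.card D := by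
    rw [← h3]
    calc _ = (Nat.card X * Nat.card th.range) * Nat.card th.ker := by ring
      _ ≤ (Nat.card (nuX th X) * Nat.card D) * Nat.card th.ker := Nat.mul_le_mul_right _ h2
      _ = _ := by ring
  have h6 : (Fintype.card F - 1) * Nat.card X + Nat.card X = Nat.card X * Fintype.card F := by
    have h7 : 0 < Fintype.card F := Fintype.card_pos
    obtain ⟨n, hn⟩ : ∃ n, Fintype.card F = n + 1 := ⟨Fintype.card F - 1, by omega⟩
    rw [hn, Nat.add_sub_cancel]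
    ring
  have h7 := congrArg (fun x => x * Nat.card D) h1
  simp only [add_mul] at h7
  rw [add_mul]
  nlinarith

end count

/-- **THE COUNT.** -/
theorem count [Finite F] [Finite D] {th : F →+ D} {X : AddSubgroup (F × D)} (hth : th ≠ 0)
    (hX : ∀ d, ((0 : F), d) ∈ X → d = 0)
    (h : ∀ c : F, c ≠ 0 → Nat.card (Kc th X c) * Nat.card D ≤ Nat.card X) :
    (∀ x, x ∈ X ↔ x.2 = 0) ∧ Function.Surjective th := by
  classical
  have : Fintype F := Fintype.ofFinite F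
  have h1 := count_aux hX h
  have h3 : Nat.card th.range * Nat.card th.ker = Fintype.card F := by
    rw [← Nat.card_eq_fintype_card, AddSubgroup.card_eq_card_quotient_mul_card_addSubgroup th.ker,
      Nat.card_congr (QuotientAddGroup.quotientKerEquivRange th).toEquiv]
  have h4 : 2 ≤ Nat.card th.range := by
    by_contra hcon
    have h5 : Nat.card th.range = 1 := by
      have : 0 < Nat.card th.range := Nat.card_pos
      omega
    refine hth ?_
    ext g
    have h6 : Subsingleton th.range := (Nat.card_eq_one_iff_unique.mp h5).1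
    have h7 := h6.elim ⟨th g, g, rfl⟩ ⟨0, zero_mem _⟩
    exact congrArg Subtype.val h7
  have h5 : 0 < Nat.card D := Nat.card_pos
  have h6 : 0 < Nat.card X := Nat.card_pos
  have hker : 2 * Nat.card th.ker ≤ Fintype.card F := by
    rw [← h3]
    exact Nat.mul_le_mul_right _ h4
  -- `|ker n| > q / 2`
  have h7 : Fintype.card F < 2 * Nat.card (kapX X) := by
    by_contra hcon
    push Not at hcon
    have h8 : 2 * (Nat.card (kapX X) + Nat.card th.ker) ≤ 2 * Fintype.card F := by omega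
    have h9 : Nat.card (kapX X) + Nat.card th.ker ≤ Fintype.card F := by omega
    have h10 := Nat.mul_le_mul_right (Nat.card D) h9
    omega
  have h8 : kapX X = ⊤ := by
    have h9 : Nat.card (kapX X) ∣ Nat.card F := AddSubgroup.card_addSubgroup_dvd_card _
    rw [Nat.card_eq_fintype_card (α := F)] at h9
    obtain ⟨m, hm⟩ := h9
    have hm1 : m = 1 := by
      have h10 : 0 < Fintype.card F := Fintype.card_pos
      rcases Nat.lt_or_ge m 2 with h11 | h11
      · have : m ≠ 0 := by rintro rfl; omega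
        omega
      · have := Nat.mul_le_mul_left (Nat.card (kapX X)) h11
        omega
    rw [hm1, mul_one] at hm
    apply AddSubgroup.eq_top_of_card_eq
    rw [← hm, Nat.card_eq_fintype_card]
  have h9 : ∀ x, x ∈ X ↔ x.2 = 0 := by
    rintro ⟨s, d⟩
    have hs : (s, (0 : D)) ∈ X := by
      have : s ∈ kapX X := by rw [h8]; trivial
      exact this
    constructor
    · intro hx
      have h10 := X.sub_mem hx hs
      rw [Prod.mk_sub_mk, sub_self, sub_zero] at h10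
      exact hX _ h10
    · intro hx
      have hx' : d = 0 := hx
      rw [hx']
      exact hs
  refine ⟨h9, ?_⟩
  have h10 : Nat.card X = Fintype.card F := by
    rw [← Nat.card_eq_fintype_card]
    refine Nat.card_congr ⟨fun x => x.1.1, fun s => ⟨(s, 0), (h9 _).mpr rfl⟩, ?_, fun s => rfl⟩
    rintro ⟨⟨s, d⟩, hx⟩
    have : d = 0 := (h9 _).mp hx
    subst this
    rfl
  have h11 : Nat.card (Kc th X 1) = Nat.card th.ker := by
    congr 1
    congr 1
    ext f
    rw [mem_Kc, h9, AddMonoidHom.mem_ker]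
    simp only [one_pow, one_mul]
  have h12 := h 1 one_ne_zero
  rw [h11, h10, ← h3, mul_comm (Nat.card th.range)] at h12
  have h13 : Nat.card D ≤ Nat.card th.range := Nat.le_of_mul_le_mul_left h12 Nat.card_pos
  have h14 : th.range = ⊤ := AddSubgroup.eq_top_of_le_card _ h13
  exact AddMonoidHom.range_eq_top.mp h14

end Cfsg.Agent.Omega.NOThreeL.NsF

end

end

-- merged: Cfsg.Agent.Mrg.Omega.NOThreeL.RF.Four
section

section


/-!
# NO-3L, `R ∩ (A)`, `k = 1`, not split, field automorphisms (`NsF`): the assembly (#22083 (c), (d), (e), (f1))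

`Four M g` : the level of `P` (799's `RF.Lvl`), with the results (GD), 'odd groups normalise `D`', `Z⁺ ≤ U`, `C_S(R) = S₀`,
`S / S₀` cyclic and the count as fields. Then

* `wc_of`, `Four.wc` : the data of `RF.Wc` for `H` minimal; `Four.inf_D` : `D ∩ C(X) = 1`;
* **`Four.cent_eq`** : `Z⁺ ∩ C(X) = R` for every `X` minimal over `S₀`;
* **`Four.not_le`** : `V ≰ O₂(C_G(R))`; **`Four.bij`** : `g : F → D` is bijective;
* **`Four.good`** (GOOD) : `z ∈ Z - R` implies `V ≤ O₂(C_G(z))`.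
-/

set_option autoImplicit false
set_option linter.unusedSectionVars false

namespace Cfsg.Agent.Omega.NOThreeL.RF

open Subgroup Cfsg Cfsg.Agent.Omega.MinPar
open Cfsg.Agent.ZN (zc zl o2)
open Cfsg.Agent.Omega.Frame Cfsg.Agent.Omega.FrameNOFF
open Cfsg.Agent.Omega.Node.NO3L Cfsg.Agent.Omega.NOThreeL.Basic
open Cfsg.Agent.Omega.NoFF.Basic (conj_conj mem_conj conj_le_iff conj_le_centralizer comm_symm comm_mono)
open Cfsg.Agent.Omega.NOThreeL.Pair (conj_eq_of_mem)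
open Cfsg.Agent.Omega.NOThreeL.RTools (cm cm_def conj_mem_of_mem isLong)
open Cfsg.Agent.Omega.NOThreeL.RA.HypQ (cm_eq_one)
open Cfsg.Agent.MinSimple.VModule (zl_le zc_le_zl le_normalizer_zl zc_le o2_isPGroup le_normalizer_o2 le_o2)
open Cfsg.Agent.Omega.FFThm (NatK)
open Cfsg.Agent.Omega.FrameFF (cv)
open Cfsg.Agent.Omega.IId.ThmCQ.Nsp
open scoped Pointwise

universe u

variable {G : Type u} [Group G] [Finite G] {F : Type} [Field F] [Finite F] [CharP F 2] {S : Sylow 2 G}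
  {P : Subgroup G}

theorem three_aux (hF : 4 ≤ Nat.card F) : ∃ a : F, a ≠ 0 ∧ a ≠ 1 := by
  classical
  have : Fintype F := Fintype.ofFinite F
  by_contra hcon
  push Not at hcon
  have h1 : Fintype.card F ≤ 2 := by
    have h2 : (Finset.univ : Finset F) ⊆ {0, 1} := by
      intro a _
      rw [Finset.mem_insert, Finset.mem_singleton]
      by_cases h : a = 0
      · exact Or.inl h
      · exact Or.inr (hcon a h)
    exact (Finset.card_le_card h2).trans Finset.card_le_two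
  rw [Nat.card_eq_fintype_card] at hF
  omega

/-- **The data of the weak closure.** -/
theorem wc_of {M : NatK F (S : Subgroup G) P (zl (S : Subgroup G) P) (cv (S : Subgroup G) P) 1} (q : Sit F S P 1)
    (S0R : ∀ s ∈ (S : Subgroup G), (∀ r ∈ Rt M, s * r = r * s) → s ∈ LS M)
    (inv : ∀ a ∈ (S : Subgroup G), ∀ b ∈ (S : Subgroup G), a * a = 1 → b * b = 1 → a ∉ LS M → b ∉ LS M →
      a * b ∈ LS M) {H : Subgroup G} (D : HypM S P H) (ZpU : Zp M ≤ zl (S : Subgroup G) H) :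
    zl (S : Subgroup G) H ≤ LS M ∧ Wc S (zl (S : Subgroup G) P) (zl (S : Subgroup G) H) H (LS M) (Zp M) := by
  have S0c : ∀ s ∈ (S : Subgroup G), s ∈ LS M ↔ ∀ z ∈ Zp M, s * z = z * s := fun s hs =>
    ⟨fun h _ hz => Zp_comm q hz h, fun h => S0R s hs fun r hr => h r (R_le_Zp q hr)⟩
  have U_le : zl (S : Subgroup G) H ≤ LS M := fun u hu => (S0c u (D.US hu)).2 fun _ hz => D.commU hu (ZpU hz)
  exact ⟨U_le, {
    VS := D.VS
    SV := D.SP.trans D.PV
    SH := D.SH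
    HU := D.HU
    commV := fun x hx y hy => D.commV hx hy
    sqV := fun x hx => D.sqV hx
    S0S := LS_le
    SS0 := S_le_normalizer_LS q.h.le
    ZpV := Zp_le
    ZpU := ZpU
    S0c := S0c
    cent := by
      intro v hv hvZ u hu hc w hw
      have hu' := U_le hu
      have h1 := (e_cm q hv hu').2
      rw [cm_eq_one.2 hc, e_D (one_mem _)] at h1
      have h2 : M.e v 0 1 ≠ 0 := fun h => hvZ ⟨hv, h⟩
      have h3 : bet M u = 0 := (mul_eq_zero.1 h1.symm).resolve_left h2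
      exact mem_centralizer_iff.1 ((bet_eq_zero q hu').1 h3) w hw
    VU := fun v hv u hu => (e_cm q hv (U_le hu)).1
    inv := inv
    three := by
      obtain ⟨a, ha0, ha1⟩ := three_aux (F := F) q.hF
      obtain ⟨v, hv, h1⟩ := M.surj fun _ => ![0, 1]
      obtain ⟨w, hw, h2⟩ := M.surj fun _ => ![0, a]
      have hv1 : M.e v 0 1 = 1 := by rw [h1]; rfl
      have hw1 : M.e w 0 1 = a := by rw [h2]; rfl
      refine ⟨v, hv, w, hw, fun h => ?_, fun h => ?_, fun h => ?_⟩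
      · exact one_ne_zero (hv1.symm.trans h.2)
      · exact ha0 (hw1.symm.trans h.2)
      · have h3 := h.2
        rw [e_add hv hw, hv1, hw1] at h3
        exact ha1 (by
          have h4 := CharTwo.add_self_eq_zero (1 : F)
          calc a = (1 + 1) + a := by rw [h4, zero_add]
            _ = 1 + (1 + a) := by ring
            _ = 1 := by rw [h3, add_zero])
    noff := by
      intro x y h1 h2 a ha b hb
      have h3 := (Basic.geo D.hc D.data).noff' (P := P) (P' := P) q.h q.h (g := x) (h := y)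
        (h1.trans (conj_le_iff.2 q.h.le)) (h2.trans (conj_le_iff.2 q.h.le))
      exact (mem_centralizer_iff.1 (h3 ha) b hb).symm }⟩

/-- The level of `P` and the results on it. -/
structure Four (M : NatK F (S : Subgroup G) P (zl (S : Subgroup G) P) (cv (S : Subgroup G) P) 1)
    (g : F → G) : Prop where
  hc : IsCharacteristicTwoType G
  data : Data (S : Subgroup G)
  sit : Sit F S P 1
  isG : IsG M g
  ne : ∃ x, g x ≠ 1
  S0R : ∀ s ∈ (S : Subgroup G), (∀ r ∈ Rt M, s * r = r * s) → s ∈ LS M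
  inv : ∀ a ∈ (S : Subgroup G), ∀ b ∈ (S : Subgroup G), a * a = 1 → b * b = 1 → a ∉ LS M → b ∉ LS M →
    a * b ∈ LS M
  gd : ∀ x ∈ cv (S : Subgroup G) P, x ≠ 1 → zl (S : Subgroup G) P ≤ o2 (centralizer ({x} : Set G))
  normD : ∀ x ∈ normalizer (Zp M : Set G), MulAut.conj x • cv (S : Subgroup G) P = cv (S : Subgroup G) P
  ZpU : ∀ H : Subgroup G, HypM S P H → Zp M ≤ zl (S : Subgroup G) H
  cnt : ∀ H : Subgroup G, HypM S P H → ∀ X : Subgroup G, MinX (zl (S : Subgroup G) P) H (LS M) X →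
    zl (S : Subgroup G) P ⊓ o2 X ≤ Zp M → cv (S : Subgroup G) P ⊓ centralizer (X : Set G) = ⊥ →
      Zp M ⊓ centralizer (X : Set G) = Rt M ∧ ∀ d ∈ cv (S : Subgroup G) P, ∃ x, g x = d

namespace Four

variable {M : NatK F (S : Subgroup G) P (zl (S : Subgroup G) P) (cv (S : Subgroup G) P) 1} {g : F → G}
  (L : Four M g)
include L

theorem par : IsParS (S : Subgroup G) P := L.sit.h

theorem D_ne : cv (S : Subgroup G) P ≠ ⊥ := by
  intro h
  obtain ⟨x, hx⟩ := L.ne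
  have h1 := L.isG.mem x
  rw [h] at h1
  exact hx (mem_bot.1 h1)

theorem S0c : ∀ s ∈ (S : Subgroup G), s ∈ LS M ↔ ∀ z ∈ Zp M, s * z = z * s := fun s hs =>
  ⟨fun h _ hz => Zp_comm L.sit hz h, fun h => L.S0R s hs fun r hr => h r (R_le_Zp L.sit hr)⟩

theorem U_le {H : Subgroup G} (D : HypM S P H) : zl (S : Subgroup G) H ≤ LS M :=
  (wc_of L.sit L.S0R L.inv D (L.ZpU H D)).1

/-- **The data of the weak closure.** -/
theorem wc {H : Subgroup G} (D : HypM S P H) :
    Wc S (zl (S : Subgroup G) P) (zl (S : Subgroup G) H) H (LS M) (Zp M) :=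
  (wc_of L.sit L.S0R L.inv D (L.ZpU H D)).2

/-- `V ≰ O₂(H)` -/
theorem not_le_o2 {H : Subgroup G} (D : HypM S P H) : ¬ zl (S : Subgroup G) P ≤ o2 H := fun h =>
  D.ne (h.trans D.o2_cent)

theorem S0_le {H : Subgroup G} (D : HypM S P H) : LS M ≤ H := LS_le.trans D.SH

/-- **(GD)** `D ∩ C(X) = 1` -/
theorem inf_D {H X : Subgroup G} (hX : MinX (zl (S : Subgroup G) P) H (LS M) X) :
    cv (S : Subgroup G) P ⊓ centralizer (X : Set G) = ⊥ := by
  rw [eq_bot_iff]
  intro x hx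
  obtain ⟨hxD, hxX⟩ := mem_inf.1 hx
  rw [mem_bot]
  by_contra hx1
  apply hX.not
  have h1 := L.gd x hxD hx1
  have h2 : X ≤ centralizer ({x} : Set G) := fun y hy => by
    rw [mem_centralizer_singleton_iff]
    exact mem_centralizer_iff.1 hxX y hy
  have hVX : zl (S : Subgroup G) P ≤ X := (V_LS L.sit).trans hX.le
  refine (le_inf h1 hVX).trans (le_o2 inf_le_right ((o2_isPGroup _).to_le inf_le_left) ?_)
  intro y hy
  have h3 := le_normalizer_o2 _ (h2 hy)
  rw [mem_normalizer_iff] at h3 ⊢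
  intro w
  rw [mem_inf, mem_inf, h3 w, mem_normalizer_iff.mp (Subgroup.le_normalizer hy) w]

/-- **`Z⁺ ∩ C(X) = R` for every `X` minimal over `S₀`** (and `g` is onto) -/
theorem cent_eq {H X : Subgroup G} (D : HypM S P H) (hX : MinX (zl (S : Subgroup G) P) H (LS M) X) :
    Zp M ⊓ centralizer (X : Set G) = Rt M ∧ ∀ d ∈ cv (S : Subgroup G) P, ∃ x, g x = d :=
  L.cnt H D X hX (hX.inf_o2_le (L.wc D) D_le_Zp L.D_ne (L.inf_D hX) L.normD) (L.inf_D hX)

theorem exists_X {H : Subgroup G} (D : HypM S P H) : ∃ X, MinX (zl (S : Subgroup G) P) H (LS M) X := by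
  obtain ⟨X, -, hX⟩ := exists_minX (le_refl H) (L.S0_le D) (L.not_le_o2 D)
  exact ⟨X, hX⟩

omit L in
theorem le_o2_of_le {V X K : Subgroup G} (hXK : X ≤ K) (hVX : V ≤ X) (h : V ≤ o2 K) : V ≤ o2 X := by
  refine (le_inf h hVX).trans (le_o2 inf_le_right ((o2_isPGroup _).to_le inf_le_left) ?_)
  intro y hy
  have h3 := le_normalizer_o2 _ (hXK hy)
  rw [mem_normalizer_iff] at h3 ⊢
  intro w
  rw [mem_inf, mem_inf, h3 w, mem_normalizer_iff.mp (Subgroup.le_normalizer hy) w]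

theorem X_le {H X : Subgroup G} (D : HypM S P H) (hX : MinX (zl (S : Subgroup G) P) H (LS M) X) :
    X ≤ centralizer (Rt M : Set G) := by
  have h1 := (L.cent_eq D hX).1
  intro x hx
  rw [mem_centralizer_iff]
  intro r hr
  rw [← h1] at hr
  exact (mem_centralizer_iff.1 (mem_inf.1 hr).2 x hx).symm

/-- **`V ≰ O₂(C_G(R))`** -/
theorem not_le {H : Subgroup G} (D : HypM S P H) :
    ¬ zl (S : Subgroup G) P ≤ o2 (centralizer (Rt M : Set G)) := by
  obtain ⟨X, hX⟩ := L.exists_X D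
  exact fun h => hX.not (le_o2_of_le (L.X_le D hX) ((V_LS L.sit).trans hX.le) h)

theorem not_le' {H : Subgroup G} (D : HypM S P H) :
    ¬ zl (S : Subgroup G) P ≤ o2 (H ⊓ centralizer (Rt M : Set G)) := by
  obtain ⟨X, hX⟩ := L.exists_X D
  exact fun h => hX.not (le_o2_of_le (le_inf hX.XH (L.X_le D hX)) ((V_LS L.sit).trans hX.le) h)

theorem add_zero' : g 0 = 1 := by
  have h1 := L.isG.add 0 0
  rw [add_zero] at h1
  exact (mul_eq_left.1 h1.symm)

/-- **`g : F → D` is bijective.** -/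
theorem bij {H : Subgroup G} (D : HypM S P H) :
    Function.Injective g ∧ ∀ d ∈ cv (S : Subgroup G) P, ∃ x, g x = d := by
  have hW := L.wc D
  obtain ⟨X, hXR, hX, x, hx, ho, hcm⟩ := hW.exists_sylow (R := Rt M) (S_norm_R L.sit) (R_le_Zp L.sit) (by
    intro s hs
    obtain ⟨hs1, hs2⟩ := mem_inf.1 hs
    exact L.S0R s hs1 fun r hr => (mem_centralizer_iff.1 hs2 r hr).symm) (L.not_le' D)
  refine ⟨?_, (L.cent_eq D hX).2⟩
  have hR := (L.cent_eq D hX).1
  -- an element `y ∈ Z⁺^x - C(X)`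
  have hy : ∃ y ∈ MulAut.conj x • Zp M, y ∉ centralizer (X : Set G) := by
    by_contra hcon
    push Not at hcon
    apply L.D_ne
    rw [← L.inf_D hX]
    refine le_antisymm (le_inf le_rfl ?_) inf_le_left
    intro d hd
    have h1 := hcon (x * d * x⁻¹) (mem_conj' (D_le_Zp hd))
    have h2 := MinX.conj_cent (inv_mem hx) h1
    have e1 : x⁻¹ * (x * d * x⁻¹) * x⁻¹⁻¹ = d := by group
    rw [e1] at h2
    rw [h2]
    exact h1
  obtain ⟨y, hy, hyX⟩ := hy
  have hyU := hX.conjZp_U hW hx hy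
  have hyS := L.U_le D hyU
  have hb : bet M y ≠ 0 := by
    intro h
    apply hyX
    refine hX.mem_of_commV hW hx ho hy fun a ha => ?_
    exact mem_centralizer_iff.1 ((bet_eq_zero L.sit hyS).1 h) a ha
  intro a b hab
  by_contra hne
  have hab' : g (a + b) = 1 := by
    rw [L.isG.add, ← hab, ← L.isG.add, CharTwo.add_self_eq_zero, L.add_zero']
  have hab0 : a + b ≠ 0 := fun h => hne (by
    calc a = a + (b + b) := by rw [CharTwo.add_self_eq_zero, add_zero]
      _ = (a + b) + b := by ring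
      _ = b := by rw [h, zero_add])
  -- `c² bet(y) = a + b`
  obtain ⟨c, hc⟩ : ∃ c : F, c ^ 2 = (a + b) * (bet M y)⁻¹ := by
    have h1 : Function.Surjective (frobenius F 2) := by
      rw [← Finite.injective_iff_surjective]
      exact frobenius_inj F 2
    obtain ⟨c, hc⟩ := h1 ((a + b) * (bet M y)⁻¹)
    exact ⟨c, hc⟩
  have hc0 : c ≠ 0 := by
    rintro rfl
    rw [zero_pow two_ne_zero] at hc
    exact (mul_ne_zero hab0 (inv_ne_zero hb)) hc.symm
  obtain ⟨v, hv, h1⟩ := M.surj fun _ => ![0, c]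
  have hv1 : M.e v 0 1 = c := by rw [h1]; rfl
  have hvZ : v ∉ Zp M := fun h => hc0 (hv1.symm.trans h.2)
  have h2 := L.isG.br v hv y hyS
  rw [hv1, hc, inv_mul_cancel_right₀ hb, hab'] at h2
  have h3 := (eps_eq_one L.sit (e_cm L.sit hv hyS).1).1 h2
  rw [← hR] at h3
  exact hcm y hy hyX v hv hvZ (mem_inf.1 h3).2

omit [CharP F 2] L in
theorem exists_hypM (hc : IsCharacteristicTwoType G) (hD : Data (S : Subgroup G)) (hP : IsParS (S : Subgroup G) P)
    {K : Subgroup G} (hK : IsLong (S : Subgroup G) K) (hne : ¬ zl (S : Subgroup G) P ≤ o2 K) :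
    ∃ H ≤ K, HypM S P H := by
  classical
  let s : Set (Subgroup G) := {H | IsLong (S : Subgroup G) H ∧ H ≤ K ∧
    ¬ zl (S : Subgroup G) P ≤ centralizer (zl (S : Subgroup G) H : Set G)}
  have hs : s.Nonempty := ⟨K, hK, le_rfl, fun h => hne (le_o2_of_comm (hD.low P hP) hK h)⟩
  obtain ⟨H, hH⟩ := (Set.toFinite s).exists_minimal hs
  obtain ⟨⟨h1, h2, h3⟩, h4⟩ := hH
  refine ⟨H, h2, ⟨hc, hD, hP, h1, h3, fun H₁ h5 h6 h7 => ?_⟩⟩
  by_contra h8
  exact h7 (le_antisymm h6 (h4 ⟨h5, h6.trans h2, h8⟩ h6))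

/-- **(GOOD)** `z ∈ Z - R` implies `V ≤ O₂(C_G(z))`. -/
theorem good {z : G} (hz : z ∈ zc (S : Subgroup G)) (hzR : z ∉ Rt M) :
    zl (S : Subgroup G) P ≤ o2 (centralizer ({z} : Set G)) := by
  by_contra hcon
  have hz1 : z ≠ 1 := fun h => hzR (h ▸ one_mem _)
  have hL : IsLong (S : Subgroup G) (centralizer ({z} : Set G)) := isLong S hz hz1
  obtain ⟨H, hHK, D⟩ := exists_hypM L.hc L.data L.par hL hcon
  obtain ⟨X, hX⟩ := L.exists_X D
  apply hzR
  rw [← (L.cent_eq D hX).1]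
  refine mem_inf.2 ⟨Z_le_Zp L.sit hz, ?_⟩
  rw [mem_centralizer_iff]
  intro y hy
  exact mem_centralizer_singleton_iff.1 (hHK (hX.XH hy))

end Four

end Cfsg.Agent.Omega.NOThreeL.RF

end

section


/-!
# NO-3L, `R ∩ (A)`, `k = 1`, nonsplit, fields (`NsF`): the frame of (f), without `H*`

`M : NatK F S P V D 1`, `4 ≤ |F|` (`q : Sit F S P 1`), `R = Rt M`, `Z⁺ = Zp M`, `S₀ = LS M`.

* `TB M = P ∩ N(S₀) ∩ N(R)` (`B`): contains `S` and the torus; `tor_TB`;
* `exists_zR` : `R ∩ Z ≠ 1`; **`tor_mem`** : every element of `(Z ∩ D) R` is conjugate into `Z` under `TB M`;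
* `R_le_of` : a subgroup `≥ Z` normalised by `TB M` contains `R`;
* `fld` : `s ∈ S` trivial on `Z⁺ / D` centralises `Z⁺` (from `C_S(R) ≤ S₀`);
* `full` : `U ≤ S₀` normalised by `TB M`, not centralising `V`, induces all `up b`;
* **`Zp_le_of`** : then `Z⁺ ≤ U` and `Z⁺ ≤ [U, V] R` (if `g` is onto).
-/

set_option autoImplicit false
set_option linter.unusedSectionVars false

namespace Cfsg.Agent.Omega.NOThreeL.RF.Pre

open Subgroup Cfsg Cfsg.Agent.Omega.MinPar
open Cfsg.Agent.ZN (zc zl o2)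
open Cfsg.Agent.Omega.Frame Cfsg.Agent.Omega.FrameNOFF
open Cfsg.Agent.Omega.Node.NO3L Cfsg.Agent.Omega.NOThreeL.Basic
open Cfsg.Agent.Omega.NoFF.Basic (conj_conj mem_conj conj_le_iff conj_le_centralizer comm_symm comm_mono)
open Cfsg.Agent.MinSimple.VModule (zl_le zc_le_zl le_normalizer_zl zc_le o2_isPGroup le_normalizer_o2 le_o2
  normalizer_le_normalizer_zc mem_zc)
open Cfsg.Agent.Omega.NOThreeL (mem_normalizer_of_conj_eq le_normalizer_of mem_sup_of_comm)
open Cfsg.Agent.Omega.NOThreeL.RTools (cm cm_def conj_mem_of_mem)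
open Cfsg.Agent.Omega.NOThreeL.AOne (Act)
open Cfsg.Agent.Omega.FFThm (NatK ActsSL)
open Cfsg.Agent.Omega.FrameFF (cv)
open Cfsg.Agent.Omega.HOne (cv_le conj_mem_zl conj_mem_cv)
open Cfsg.Agent.Omega.IId.ThmCQ.Nsp
open Cfsg.Agent.Lib.SL2Mat
open Cfsg.Agent.Omega.NatPair (ap ap_mul ap_one ap_inv_ap)
open scoped Pointwise commutatorElement

universe u

variable {G : Type u} [Group G] [Finite G] {F : Type} [Field F] [Finite F] [CharP F 2] {S : Sylow 2 G}
  {P : Subgroup G}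

/-- coordinates on `V / D` -/
def co (M : NatK F (S : Subgroup G) P (zl (S : Subgroup G) P) (cv (S : Subgroup G) P) 1) : G → Fin 2 → F :=
  fun v => M.e v 0

/-- `B = T_P S` -/
def TB (M : NatK F (S : Subgroup G) P (zl (S : Subgroup G) P) (cv (S : Subgroup G) P) 1) : Subgroup G :=
  P ⊓ normalizer (LS M : Set G) ⊓ normalizer (Rt M : Set G)

variable {M : NatK F (S : Subgroup G) P (zl (S : Subgroup G) P) (cv (S : Subgroup G) P) 1}

theorem TB_le_P : TB M ≤ P := inf_le_left.trans inf_le_left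

theorem TB_norm_LS : TB M ≤ normalizer (LS M : Set G) := inf_le_left.trans inf_le_right

theorem TB_norm_R : TB M ≤ normalizer (Rt M : Set G) := inf_le_right

theorem P_norm_D : P ≤ normalizer (cv (S : Subgroup G) P : Set G) :=
  le_normalizer_of fun _ hs _ hd => conj_mem_cv hs hd

variable (q : Sit F S P 1)
include q

theorem S_le_TB : (S : Subgroup G) ≤ TB M :=
  le_inf (le_inf q.h.le (S_le_normalizer_LS q.h.le)) (S_norm_R q)

theorem TB_norm_Zp : TB M ≤ normalizer (Zp M : Set G) :=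
  le_normalizer_of fun _ hx _ hz => norm_Zp q (TB_le_P hx) (TB_norm_LS hx) hz

/-- the torus is in `TB M` -/
theorem tor_TB {t : F} (ht : t ≠ 0) : ∃ x ∈ TB M,
    ActsSL M.e (zl (S : Subgroup G) P) (cv (S : Subgroup G) P) x fun _ => dg t ht := by
  obtain ⟨x, hx, hxN, hA⟩ := tor (M := M) q ht
  refine ⟨x, mem_inf.2 ⟨mem_inf.2 ⟨hx, hxN⟩, ?_⟩, hA⟩
  have h1 : Subgroup.zpowers x ≤ normalizer (Rt M : Set G) := by
    refine le_normalizer_of fun u hu r hr => ?_
    have h2 : ∃ B : Matrix.SpecialLinearGroup (Fin 2) F, ent B 1 0 = 0 ∧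
        ActsSL M.e (zl (S : Subgroup G) P) (cv (S : Subgroup G) P) u fun _ => B := by
      have huP : u ∈ P := (zpowers_le.2 hx) hu
      have huN : u ∈ normalizer (LS M : Set G) := (zpowers_le.2 hxN) hu
      have h3 : u ∈ PL M := (zpowers_le.2 (⟨hx, _, hA⟩ : x ∈ PL M)) hu
      obtain ⟨-, B, hB⟩ := h3
      have hB0 : B = fun _ => B 0 := funext fun i => by rw [Fin.eq_zero i]
      rw [hB0] at hB
      exact ⟨B 0, tri_of_norm q huP huN hB 0, hB⟩
    obtain ⟨B, hB0, hB⟩ := h2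
    exact tri_norm_R q ((zpowers_le.2 hx) hu) hB0 hB hr
  exact h1 (mem_zpowers x)

/-- `R ∩ Z ≠ 1` -/
theorem exists_zR : ∃ z ∈ zc (S : Subgroup G), z ∈ Rt M ∧ z ≠ 1 := by
  obtain ⟨c, hc, hz, h1⟩ := Cfsg.Agent.MinSimple.CaseD8.exists_mem_zc (S := (S : Subgroup G)) (C := Rt M) S.isPGroup'
    ((R_le_V q).trans (V_le_S q)) (S_norm_R q) (Zf_ne_bot q 0)
  exact ⟨c, hz, hc, h1⟩

/-- the torus is transitive on `R#` -/
theorem exists_conj {r z : G} (hr : r ∈ Rt M) (hz : z ∈ Rt M) (hr1 : r ≠ 1) (hz1 : z ≠ 1) :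
    ∃ x ∈ TB M, x * r * x⁻¹ = z ∧ ∀ d ∈ cv (S : Subgroup G) P, x * d * x⁻¹ = d := by
  have h1 : M.e r 0 0 ≠ 0 := fun h => hr1 (R_eq_one q hr h)
  have h2 : M.e z 0 0 ≠ 0 := fun h => hz1 (R_eq_one q hz h)
  have ht : M.e z 0 0 / M.e r 0 0 ≠ 0 := div_ne_zero h2 h1
  obtain ⟨x, hx, hA⟩ := tor_TB (M := M) q ht
  refine ⟨x, hx, ?_, fun d hd => by rw [hA.2 d hd, mul_inv_cancel_right]⟩
  refine R_inj q (conj_mem_of_mem (TB_norm_R hx) hr) hz ?_
  have h3 := congrFun (hA.1 r (R_le_V q hr) 0) 0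
  rw [NatPair.ap_zero', dg_00, dg_01, zero_mul, add_zero, div_mul_cancel₀ _ h1] at h3
  exact h3

/-- **every element of `(Z ∩ D) R` is conjugate into `Z`** -/
theorem tor_mem {z : G} (hz : z ∈ (zc (S : Subgroup G) ⊓ cv (S : Subgroup G) P) ⊔ Rt M) :
    ∃ p ∈ TB M, p * z * p⁻¹ ∈ zc (S : Subgroup G) := by
  obtain ⟨e, he, r, hr, rfl⟩ := mem_sup_of_comm (fun x hx => by
    rw [mem_centralizer_iff]
    intro y hy
    exact V_comm q (R_le_V q hy) (cv_le _ _ (mem_inf.1 hx).2)) hz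
  by_cases hr1 : r = 1
  · refine ⟨1, one_mem _, ?_⟩
    rw [hr1, mul_one, one_mul, inv_one, mul_one]
    exact (mem_inf.1 he).1
  · obtain ⟨z₀, hz₀, hzR, hz1⟩ := exists_zR (M := M) q
    obtain ⟨x, hx, h1, h2⟩ := exists_conj q hr hzR hr1 hz1
    refine ⟨x, hx, ?_⟩
    have e1 : x * (e * r) * x⁻¹ = (x * e * x⁻¹) * (x * r * x⁻¹) := by group
    rw [e1, h1, h2 e (mem_inf.1 he).2]
    exact mul_mem (mem_inf.1 he).1 hz₀

/-- a subgroup containing `Z` and normalised by `TB M` contains `R` -/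
theorem R_le_of {U : Subgroup G} (hZ : zc (S : Subgroup G) ≤ U) (hU : TB M ≤ normalizer (U : Set G)) : Rt M ≤ U := by
  intro r hr
  by_cases hr1 : r = 1
  · rw [hr1]; exact one_mem _
  obtain ⟨z₀, hz₀, hzR, hz1⟩ := exists_zR (M := M) q
  obtain ⟨x, hx, h1, -⟩ := exists_conj q hzR hr hz1 hr1
  rw [← h1]
  exact conj_mem_of_mem (hU hx) (hZ hz₀)

omit [Finite G] [Finite F] [CharP F 2] q in
theorem act_iff {x : G} {A : Matrix.SpecialLinearGroup (Fin 2) F}
    (h : ActsSL M.e (zl (S : Subgroup G) P) (cv (S : Subgroup G) P) x fun _ => A) :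
    Act (co M) (zl (S : Subgroup G) P) x A := fun v hv => h.1 v hv 0

/-- **`s ∈ S` trivial on `Z⁺ / D` centralises `Z⁺`** -/
theorem fld (hS0 : ∀ s ∈ (S : Subgroup G), (∀ r ∈ Rt M, s * r = r * s) → s ∈ LS M) {s : G}
    (hs : s ∈ (S : Subgroup G)) (h : ∀ v ∈ Zp M, co M (s * v * s⁻¹) = co M v) : s ∈ centralizer (Zp M : Set G) := by
  have h1 : s ∈ LS M := by
    refine hS0 s hs fun r hr => ?_
    have h2 : s * r * s⁻¹ = r := by
      refine R_inj q (conj_mem_of_mem (S_norm_R q hs) hr) hr ?_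
      exact congrFun (h r (R_le_Zp q hr)) 0
    calc s * r = (s * r * s⁻¹) * s := by group
      _ = r * s := by rw [h2]
  rw [mem_centralizer_iff]
  intro z hz
  exact (Zp_comm q hz h1).symm

/-- the change of `β` under the torus -/
theorem bet_tor {x u : G} {t : F} (ht : t ≠ 0) (hx : x ∈ P)
    (hA : ActsSL M.e (zl (S : Subgroup G) P) (cv (S : Subgroup G) P) x fun _ => dg t ht) (hu : u ∈ LS M) :
    bet M (x * u * x⁻¹) = t ^ 2 * bet M u := by
  have h1 := IId.Ns.acts_mul M (mul_mem hx (q.h.le hu.1)) (inv_mem hx)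
    (IId.Ns.acts_mul M hx (q.h.le hu.1) hA (bet_LS q hu)) (IId.Ns.acts_inv M hx hA)
  refine bet_eq ?_
  have h2 : (fun _ : Fin 1 => dg t ht * up (bet M u) * (dg t ht)⁻¹) =
      fun _ : Fin 1 => (up (t ^ 2 * bet M u) : Matrix.SpecialLinearGroup (Fin 2) F) := by
    funext _
    have h3 := Cfsg.Agent.Omega.ThmC.FourOf.tri_up (A := dg t ht) (by simp) (bet M u)
    rwa [dg_00] at h3
  rwa [h2] at h1

/-- **`U` induces all `up b`** -/
theorem full {U : Subgroup G} (hUS : U ≤ LS M) (hU : TB M ≤ normalizer (U : Set G))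
    (hne : ¬ zl (S : Subgroup G) P ≤ centralizer (U : Set G)) (b : F) : ∃ u ∈ U, bet M u = b := by
  classical
  by_cases hb : b = 0
  · exact ⟨1, one_mem _, by rw [bet_one q, hb]⟩
  obtain ⟨u, hu, hub⟩ : ∃ u ∈ U, bet M u ≠ 0 := by
    by_contra hcon
    push Not at hcon
    apply hne
    rw [le_centralizer_iff]
    intro u hu
    exact (bet_eq_zero q (hUS hu)).1 (hcon u hu)
  have : Fintype F := Fintype.ofFinite F
  obtain ⟨t, ht⟩ := FiniteField.isSquare_of_char_two (ringChar.eq F 2) (b / bet M u)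
  have ht0 : t ≠ 0 := by
    rintro rfl
    rw [mul_zero] at ht
    exact div_ne_zero hb hub ht
  obtain ⟨x, hx, hA⟩ := tor_TB (M := M) q ht0
  refine ⟨x * u * x⁻¹, conj_mem_of_mem (hU hx) hu, ?_⟩
  rw [bet_tor q ht0 (TB_le_P hx) hA (hUS hu), pow_two, ← ht, div_mul_cancel₀ _ hub]

variable {g : F → G} (hg : IsG M g)
include hg

/-- **`Z⁺ ≤ [U, V] R`** (elementwise) -/
theorem Zp_le_of {U K : Subgroup G} (hUS : U ≤ LS M) (hU : TB M ≤ normalizer (U : Set G))
    (hne : ¬ zl (S : Subgroup G) P ≤ centralizer (U : Set G)) (hgs : ∀ d ∈ cv (S : Subgroup G) P, ∃ x, g x = d)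
    (hK : ∀ v ∈ zl (S : Subgroup G) P, ∀ u ∈ U, cm v u ∈ K) (hRK : Rt M ≤ K) : Zp M ≤ K := by
  intro z hz
  obtain ⟨r, hr, d, hd, rfl⟩ := exists_rd q hz
  refine mul_mem (hRK hr) ?_
  obtain ⟨x, rfl⟩ := hgs d hd
  obtain ⟨v, hv, -, hv1⟩ := exists_v1 (M := M) q
  obtain ⟨u, hu, hub⟩ := full q hUS hU hne x
  obtain ⟨r', hr', -, h2⟩ := exists_cm q hg hv (hUS hu)
  rw [hv1, hub, one_pow, one_mul] at h2
  have h3 := hK v hv u hu
  rw [h2] at h3
  have h4 := mul_mem (inv_mem (hRK hr')) h3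
  rwa [inv_mul_cancel_left] at h4

end Cfsg.Agent.Omega.NOThreeL.RF.Pre

end

end

-- merged: Cfsg.Agent.Omega.NOThreeL.RF.Gal
section

/-!
# NO-3L, `R ∩ (A)`, field automorphisms (NsF): three pure lemmas for (GD) of #21360 (helper71)

* `descent` : Galois descent: semilinear additive maps `ρ i`, `i ∈ ι`, with different field automorphisms; if all
  `∑ i, ρ i x` lie in the subspace `R`, then all `ρ i x` lie in `R`;
* `card_lt_two_pow` : an abelian group acting faithfully on a nonempty finite set `Ω` has order `< 2 ^ |Ω|`;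
* `two_pow_card_aut_le` : `2 ^ |Aut F| ≤ |F|` for a finite field of characteristic 2.
-/

set_option autoImplicit false

namespace Cfsg.Agent.Omega.NOThreeL.RF.GD

/-- **Galois descent.** -/
theorem descent {F X ι : Type*} [Field F] [AddCommGroup X] [Module F X] [Fintype ι] (ρ : ι → X →+ X)
    (σ : ι → F ≃+* F) (hσ : Function.Injective σ) (hs : ∀ i c x, ρ i (c • x) = σ i c • ρ i x)
    (R : Submodule F X) (ht : ∀ x, ∑ i, ρ i x ∈ R) (i : ι) (x : X) : ρ i x ∈ R := by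
  by_contra hx
  obtain ⟨φ, hφ, hφR⟩ := Submodule.exists_le_ker_of_notMem hx
  have h1 : ∀ c : F, ∑ j, φ (ρ j x) * σ j c = 0 := by
    intro c
    have h2 : φ (∑ j, ρ j (c • x)) = 0 := hφR (ht (c • x))
    rw [map_sum] at h2
    rw [← h2]
    refine Finset.sum_congr rfl fun j _ => ?_
    rw [hs, map_smul, smul_eq_mul, mul_comm]
  let f : ι → F →* F := fun j => (σ j : F →* F)
  have hf : Function.Injective f := by
    intro j j' hjj
    apply hσ
    ext c
    exact DFunLike.congr_fun hjj c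
  have h3 := (linearIndependent_monoidHom F F).comp f hf
  rw [Fintype.linearIndependent_iff] at h3
  have h4 := h3 (fun j => φ (ρ j x)) (by
    funext c
    simp only [Function.comp_apply, Finset.sum_apply, Pi.smul_apply, smul_eq_mul, Pi.zero_apply]
    exact h1 c) i
  exact hφ h4

/-- **An abelian group acting faithfully on a nonempty finite set.** -/
theorem card_lt_two_pow {E Ω : Type*} [CommGroup E] [MulAction E Ω] [Finite Ω] [Nonempty Ω]
    (hf : ∀ e : E, (∀ ω : Ω, e • ω = ω) → e = 1) : Nat.card E < 2 ^ Nat.card Ω := by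
  classical
  let r : MulAction.orbitRel.Quotient E Ω → Ω := fun o => Quotient.out o
  let f : E → Set Ω := fun e => Set.range fun o => e • r o
  have hr : ∀ o, (Quotient.mk'' (r o) : MulAction.orbitRel.Quotient E Ω) = o := fun o => Quotient.out_eq' o
  have hinj : Function.Injective f := by
    intro e e' hee
    have h1 : ∀ o, e • r o = e' • r o := by
      intro o
      have h2 : e • r o ∈ f e' := by rw [← hee]; exact ⟨o, rfl⟩
      obtain ⟨o', ho'⟩ := h2
      have h3 : o' = o := by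
        rw [← hr o', ← hr o]
        refine Quotient.sound' ?_
        rw [MulAction.orbitRel_apply, MulAction.mem_orbit_iff]
        refine ⟨e'⁻¹ * e, ?_⟩
        rw [mul_smul, ← ho']
        exact inv_smul_smul _ _
      rw [h3] at ho'
      exact ho'.symm
    have h2 : e'⁻¹ * e = 1 := by
      apply hf
      intro ω
      have h3 : MulAction.orbitRel E Ω (r (Quotient.mk'' ω)) ω := Quotient.exact' (hr (Quotient.mk'' ω))
      rw [MulAction.orbitRel_apply, MulAction.mem_orbit_iff] at h3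
      obtain ⟨g, hg⟩ := h3
      have hg' : ω = g⁻¹ • r (Quotient.mk'' ω) := by rw [← hg, inv_smul_smul]
      have h4 := h1 (Quotient.mk'' ω)
      calc (e'⁻¹ * e) • ω = (e'⁻¹ * e) • g⁻¹ • r (Quotient.mk'' ω) := by rw [← hg']
        _ = g⁻¹ • e'⁻¹ • e • r (Quotient.mk'' ω) := by
          rw [smul_smul, smul_smul, smul_smul]
          congr 1
          rw [mul_comm (e'⁻¹ * e) g⁻¹, mul_assoc]
        _ = g⁻¹ • r (Quotient.mk'' ω) := by rw [h4, inv_smul_smul]
        _ = ω := hg'.symm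
    exact (inv_mul_eq_one.1 h2).symm
  have hE : Finite E := Finite.of_injective f hinj
  have hne : ∅ ∉ Set.range f := by
    rintro ⟨e, he⟩
    obtain ⟨ω⟩ := ‹Nonempty Ω›
    have : e • r (Quotient.mk'' ω) ∈ f e := ⟨_, rfl⟩
    rw [he] at this
    exact this
  have hcard : Nat.card (Set Ω) = 2 ^ Nat.card Ω := by
    have := Fintype.ofFinite Ω
    rw [Nat.card_eq_fintype_card, Nat.card_eq_fintype_card, Fintype.card_set]
  rw [← hcard, ← Nat.card_range_of_injective hinj]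
  have h5 : Set.range f ⊂ Set.univ := by
    refine Set.ssubset_univ_iff.2 fun h => hne ?_
    rw [h]
    exact Set.mem_univ _
  have h6 := Set.ncard_lt_ncard h5 (Set.toFinite _)
  rwa [Set.ncard_univ] at h6

/-- `2 ^ |Aut F| ≤ |F|`. -/
theorem two_pow_card_aut_le (F : Type*) [Field F] [Finite F] [CharP F 2] :
    2 ^ Nat.card (F ≃+* F) ≤ Nat.card F := by
  have hp : Fact (Nat.Prime 2) := ⟨Nat.prime_two⟩
  have := Fintype.ofFinite F
  let _alg : Algebra (ZMod 2) F := ZMod.algebra F 2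
  have h1 : Nat.card F = 2 ^ Module.finrank (ZMod 2) F := by
    rw [Module.natCard_eq_pow_finrank (K := ZMod 2), Nat.card_zmod]
  rw [h1]
  refine Nat.pow_le_pow_right (by norm_num) ?_
  let g : (F ≃+* F) → (F ≃ₐ[ZMod 2] F) := fun σ =>
    AlgEquiv.ofRingEquiv (f := σ) fun r => by
      have h2 : (σ : F →+* F).comp (algebraMap (ZMod 2) F) = algebraMap (ZMod 2) F := Subsingleton.elim _ _
      exact DFunLike.congr_fun h2 r
  have hg : Function.Injective g := by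
    intro a b hab
    ext x
    have := DFunLike.congr_fun hab x
    exact this
  have h3 := Nat.card_le_card_of_injective g hg
  refine h3.trans ?_
  rw [Nat.card_eq_fintype_card]
  exact AlgEquiv.card_le

end Cfsg.Agent.Omega.NOThreeL.RF.GD

end

-- merged: Cfsg.Agent.Mrg.Omega.NOThreeL.RF.Semi
section

section


/-!
# NO-3L, `R ∩ (A)`, field automorphisms (NsF): `S` acts semilinearly on `V / D` (helper71)

`M : NatK F S P (zl S P) (cv S P) 1`.

* `exists_semi` (pure): an additive injective map of `F²` which normalises `SL₂(F)` and the line is semilinear;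
* `Semi M s τ` : `s` acts on `V / D` as a `τ`-semilinear map; `Semi.exists`, `Semi.unique`, `Semi.mul`;
* `SL M` : the elements of `S` acting as some `up b` (trivially on `D`); **`mem_SL_iff`** : `s ∈ SL M ↔ Semi M s 1`;
* **`relIndex_SL_le`** : `|S : SL M| ≤ |Aut F|`;
* `Semi.conj_dg` : `s t s⁻¹` acts as `dg (τ l) * up c` if `t` acts as `dg l`.
-/

set_option autoImplicit false
set_option linter.unusedSectionVars false

namespace Cfsg.Agent.Omega.NOThreeL.RF.GD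

open Subgroup Cfsg Cfsg.Agent.ZN Cfsg.Agent.Omega.MinPar
open Cfsg.Agent.Omega.FrameFF Cfsg.Agent.Omega.FFThm Cfsg.Agent.Lib.SL2Mat
open Cfsg.Agent.Omega.NatPair (ap ap_add ap_mul ap_one ap_inj ext2 ap_zero' ap_one' ap_inv_ap ap_ap_inv)
open Cfsg.Agent.Omega.HOne (cv_le conj_mem_zl conj_mem_cv)
open Cfsg.Agent.Omega.IId.Cv Cfsg.Agent.Omega.IId.Ns
open Cfsg.Agent.MinSimple.VModule (zc_comm zc_sq zc_le mem_zc le_normalizer_o2 normalizer_le_normalizer_zc zc_le_zl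
  o2_isPGroup o2_le)

universe u

section pure

variable {F : Type} [Field F]

theorem ap_smul (A : Matrix.SpecialLinearGroup (Fin 2) F) (c : F) (x : Fin 2 → F) : ap A (c • x) = c • ap A x := by
  apply ext2
  · rw [ap_zero', Pi.smul_apply, Pi.smul_apply, Pi.smul_apply, ap_zero', smul_eq_mul, smul_eq_mul, smul_eq_mul]; ring
  · rw [ap_one', Pi.smul_apply, Pi.smul_apply, Pi.smul_apply, ap_one', smul_eq_mul, smul_eq_mul, smul_eq_mul]; ring

/-- An additive injective map of `F²` which normalises `SL₂(F)` and preserves the line `{x | x 1 = 0}`. -/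
theorem exists_semi [Finite F] (φ : (Fin 2 → F) → Fin 2 → F) (hadd : ∀ x y, φ (x + y) = φ x + φ y)
    (hinj : ∀ x, φ x = 0 → x = 0) (hline : ∀ x : F, φ ![x, 0] 1 = 0)
    (hnorm : ∀ A : Matrix.SpecialLinearGroup (Fin 2) F, ∃ B : Matrix.SpecialLinearGroup (Fin 2) F,
      ∀ x, φ (ap A x) = ap B (φ x)) : ∃ σ : F ≃+* F, ∀ (c : F) x, φ (c • x) = σ c • φ x := by
  have h0 : φ 0 = 0 := by
    have := hadd 0 0
    rw [add_zero] at this
    exact left_eq_add.1 this
  set ρ : F → F := fun c => φ ![c, 0] 0 with hρ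
  have hv : ∀ c, φ ![c, 0] = ![ρ c, 0] := fun c => ext2 rfl (hline c)
  have hρadd : ∀ c d, ρ (c + d) = ρ c + ρ d := by
    intro c d
    have e : (![c + d, 0] : Fin 2 → F) = ![c, 0] + ![d, 0] := by
      apply ext2
      · simp
      · simp
    show φ ![c + d, 0] 0 = _
    rw [e, hadd]
    rfl
  have hρinj : ∀ c, ρ c = 0 → c = 0 := by
    intro c hc
    have h1 : φ ![c, 0] = 0 := by
      rw [hv, hc]
      apply ext2
      · simp
      · simp
    have h2 := congrFun (hinj _ h1) 0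
    simpa using h2
  have hρ1 : ρ 1 ≠ 0 := fun h => one_ne_zero (hρinj 1 h)
  have hmul : ∀ l c, ρ (l * c) * ρ 1 = ρ l * ρ c := by
    intro l c
    by_cases hl : l = 0
    · subst hl
      have h1 : ρ 0 = 0 := by
        show φ ![0, 0] 0 = 0
        have e : (![0, 0] : Fin 2 → F) = 0 := by
          apply ext2
          · simp
          · simp
        rw [e, h0]
        rfl
      rw [zero_mul, h1, zero_mul, zero_mul]
    · obtain ⟨B, hB⟩ := hnorm (dg l hl)
      have h1 : ∀ y, ρ (l * y) = ent B 0 0 * ρ y := by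
        intro y
        have e : ap (dg l hl) ![y, 0] = ![l * y, 0] := by
          apply ext2
          · rw [ap_zero']; simp
          · rw [ap_one']; simp
        have h2 := congrFun (hB ![y, 0]) 0
        rw [e, hv, hv, ap_zero'] at h2
        simpa using h2
      have h3 := h1 1
      rw [mul_one] at h3
      rw [h1 c, h3]
      ring
  let f : F →+* F :=
    { toFun := fun c => ρ c / ρ 1
      map_one' := div_self hρ1
      map_mul' := fun a b => by
        show ρ (a * b) / ρ 1 = ρ a / ρ 1 * (ρ b / ρ 1)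
        rw [div_mul_div_comm, ← hmul]
        field_simp
      map_zero' := by
        have h1 := hρadd 0 0
        rw [add_zero] at h1
        show ρ 0 / ρ 1 = 0
        rw [left_eq_add.1 h1, zero_div]
      map_add' := fun a b => by
        show ρ (a + b) / ρ 1 = ρ a / ρ 1 + ρ b / ρ 1
        rw [hρadd, add_div] }
  have hf : Function.Bijective f := Finite.injective_iff_bijective.1 f.injective
  refine ⟨RingEquiv.ofBijective f hf, fun c x => ?_⟩
  show φ (c • x) = (ρ c / ρ 1) • φ x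
  by_cases hx : x = 0
  · rw [hx, smul_zero, h0, smul_zero]
  obtain ⟨A, hA⟩ := NatPair.exists_ap (F := F) (x := ![1, 0]) (y := x) (by
    intro h
    have := congrFun h 0
    simp at this) hx
  obtain ⟨B, hB⟩ := hnorm A
  have e1 : c • x = ap A ![c, 0] := by
    rw [← hA, ← ap_smul]
    congr 1
    apply ext2
    · simp
    · simp
  rw [e1, hB, hv]
  rw [← hA, hB, hv, ← ap_smul]
  congr 1
  apply ext2
  · simp [div_mul_cancel₀ _ hρ1]
  · simp

end pure

section semi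

variable {G : Type u} [Group G] {F : Type} [Field F] {S P : Subgroup G}
  (M : NatK F S P (zl S P) (cv S P) 1)

/-- `s` acts on `V / D` as a `τ`-semilinear map. -/
def Semi (s : G) (τ : F ≃+* F) : Prop :=
  ∀ v ∈ zl S P, ∀ w ∈ zl S P, ∀ c : F, M.e w 0 = c • M.e v 0 → M.e (s * w * s⁻¹) 0 = τ c • M.e (s * v * s⁻¹) 0

variable {M}

theorem surj1 (x : Fin 2 → F) : ∃ v ∈ zl S P, M.e v 0 = x := by
  obtain ⟨v, hv, h⟩ := M.surj fun _ => x
  exact ⟨v, hv, by rw [h]⟩

theorem ker1 {v : G} (hv : v ∈ zl S P) : M.e v 0 = 0 ↔ v ∈ cv S P := by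
  rw [← M.ker v hv]
  constructor
  · intro h
    funext i
    rw [Subsingleton.elim i 0]
    exact h
  · intro h
    rw [h]
    rfl

theorem e_ext {v w : G} (h : M.e v 0 = M.e w 0) : M.e v = M.e w := by
  funext i
  rw [Subsingleton.elim i 0]
  exact h

theorem ne_zero_conj {g v : G} (hg : g ∈ P) (hv : v ∈ zl S P) (h : M.e (g * v * g⁻¹) 0 = 0) : M.e v 0 = 0 := by
  rw [ker1 hv]
  have h1 := (ker1 (conj_mem_zl hg hv)).1 h
  have h2 := conj_mem_cv (inv_mem hg) h1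
  have e : g⁻¹ * (g * v * g⁻¹) * g⁻¹⁻¹ = v := by group
  rwa [e] at h2

theorem Semi.unique {s : G} (hs : s ∈ P) {τ υ : F ≃+* F} (h : Semi M s τ) (h' : Semi M s υ) : τ = υ := by
  obtain ⟨v, hv, hv1⟩ := surj1 (M := M) ![1, 0]
  have hne : M.e (s * v * s⁻¹) 0 ≠ 0 := by
    intro h0
    have h1 := ne_zero_conj hs hv h0
    rw [hv1] at h1
    have := congrFun h1 0
    simp at this
  ext c
  obtain ⟨w, hw, hw1⟩ := surj1 (M := M) (c • ![1, 0])
  have h1 := h v hv w hw c (by rw [hw1, hv1])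
  have h2 := h' v hv w hw c (by rw [hw1, hv1])
  rw [h1] at h2
  exact smul_left_injective F hne h2

theorem Semi.mul {s t : G} (ht : t ∈ P) {τ υ : F ≃+* F} (h : Semi M s τ) (h' : Semi M t υ) :
    Semi M (s * t) (τ * υ) := by
  intro v hv w hw c hc
  have h1 := h' v hv w hw c hc
  have h2 := h _ (conj_mem_zl ht hv) _ (conj_mem_zl ht hw) _ h1
  have e1 : s * t * w * (s * t)⁻¹ = s * (t * w * t⁻¹) * s⁻¹ := by group
  have e2 : s * t * v * (s * t)⁻¹ = s * (t * v * t⁻¹) * s⁻¹ := by group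
  rw [e1, e2, h2]
  rfl

theorem Semi.one_of_act {s : G} {A : Matrix.SpecialLinearGroup (Fin 2) F}
    (h : ∀ v ∈ zl S P, M.e (s * v * s⁻¹) 0 = ap A (M.e v 0)) : Semi M s 1 := by
  intro v hv w hw c hc
  rw [h w hw, h v hv, hc, ap_smul]
  rfl

theorem Semi.exists [Finite F] (hSP : S ≤ P) {s : G} (hs : s ∈ S) : ∃ τ, Semi M s τ := by
  have hsP := hSP hs
  choose r hr hrx using surj1 (M := M)
  have h1 : ∀ v ∈ zl S P, M.e (s * v * s⁻¹) 0 = M.e (s * r (M.e v 0) * s⁻¹) 0 := by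
    intro v hv
    exact congrFun (e_conj_congr M hsP hv (hr _) (e_ext (hrx _).symm)) 0
  obtain ⟨σ, hσ⟩ := exists_semi (F := F) (fun x => M.e (s * r x * s⁻¹) 0) (by
      intro x y
      have h2 := h1 _ (mul_mem (hr x) (hr y))
      have h3 : M.e (r x * r y) 0 = x + y := by rw [M.mul _ (hr x) _ (hr y), Pi.add_apply, hrx, hrx]
      rw [h3] at h2
      show M.e (s * r (x + y) * s⁻¹) 0 = _
      rw [← h2]
      have e : s * (r x * r y) * s⁻¹ = (s * r x * s⁻¹) * (s * r y * s⁻¹) := by group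
      rw [e, M.mul _ (conj_mem_zl hsP (hr x)) _ (conj_mem_zl hsP (hr y))]
      rfl) (by
      intro x hx
      rw [← hrx x]
      exact ne_zero_conj hsP (hr x) hx) (by
      intro x
      obtain ⟨π, hπ⟩ := M.line s hs
      have h2 := hπ (r ![x, 0]) (hr _) 0
      rw [Subsingleton.elim (π 0) 0] at h2
      show M.e (s * r ![x, 0] * s⁻¹) 0 1 = 0
      rw [h2, hrx]
      simp) (by
      intro A
      obtain ⟨k, hk, hkA⟩ := M.lift fun _ => A
      obtain ⟨B, hB⟩ := M.norm s hsP k hk (fun _ => A) hkA.1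
      refine ⟨B 0, fun x => ?_⟩
      have h2 := hkA.1 (r x) (hr x) 0
      rw [hrx] at h2
      have hkr := conj_mem_zl hk (hr x)
      have h3 := h1 _ hkr
      rw [h2] at h3
      show M.e (s * r (ap A x) * s⁻¹) 0 = ap (B 0) (M.e (s * r x * s⁻¹) 0)
      have e1 : s * (k * r x * k⁻¹) * s⁻¹ = s * k * s⁻¹ * (s * r x * s⁻¹) * (s * k * s⁻¹)⁻¹ := by group
      rw [← h3, ← hB _ (conj_mem_zl hsP (hr x)) 0, e1])
  refine ⟨σ, fun v hv w hw c hc => ?_⟩
  rw [h1 w hw, h1 v hv, hc]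
  exact hσ c _

/-- `s t s⁻¹` acts as `dg (τ l) * up c` if `t` acts as `dg l` -/
theorem Semi.conj_dg (hSP : S ≤ P) {s t : G} (hs : s ∈ S) {τ : F ≃+* F} (h : Semi M s τ) {l : F} (hl : l ≠ 0)
    (ht : Al M 0 t (dg l hl)) : ∃ c, Al M 0 (s * t * s⁻¹) (dg (τ l) (by simpa using hl) * up c) := by
  have hsP := hSP hs
  have hm : Mv M s 0 0 := by
    intro v hv
    constructor
    · exact ne_zero_conj hsP hv
    · intro h0
      have h1 := conj_mem_cv hsP ((ker1 hv).1 h0)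
      exact (ker1 (conj_mem_zl hsP hv)).2 h1
  obtain ⟨m, c, hmc⟩ := conj_Al_line hSP hs hm (by simp) ht
  refine ⟨c, ?_⟩
  obtain ⟨v, hv, hv1⟩ := surj1 (M := M) ![1, 0]
  have h1 := hmc.same (conj_mem_zl hsP hv)
  have e1 : s * t * s⁻¹ * (s * v * s⁻¹) * (s * t * s⁻¹)⁻¹ = s * (t * v * t⁻¹) * s⁻¹ := by group
  rw [e1] at h1
  have h2 := h v hv _ (ht.V hv) l (by
    rw [ht.same hv, hv1]
    apply ext2
    · rw [ap_zero']; simp
    · rw [ap_one']; simp)
  rw [h2] at h1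
  have h3 : M.e (s * v * s⁻¹) 0 1 = 0 := by
    rw [conj_line hSP hs hm hv, hv1]
    simp
  have h4 := congrFun h1 0
  rw [ap_mul, ap_up2, Pi.smul_apply, ap_zero', h3] at h4
  have h5 : M.e (s * v * s⁻¹) 0 0 ≠ 0 := by
    intro h0
    have h6 : M.e (s * v * s⁻¹) 0 = 0 := ext2 h0 h3
    have h7 := ne_zero_conj hsP hv h6
    rw [hv1] at h7
    have := congrFun h7 0
    simp at this
  have h6 : τ l = (m : F) := by
    have h7 : τ l * M.e (s * v * s⁻¹) 0 0 = (m : F) * M.e (s * v * s⁻¹) 0 0 := by simpa using h4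
    exact mul_right_cancel₀ h5 h7
  refine hmc.of_eq ?_
  congr 1
  apply ext_ent <;> simp [h6]

variable (M)

/-- The elements of `S` acting as some `up b`, trivially on `D`. -/
def SL : Subgroup G where
  carrier := {s | s ∈ S ∧ ∃ b, Al M 0 s (up b)}
  one_mem' := ⟨one_mem _, 0, by rw [up_zero]; exact Al.one 0⟩
  mul_mem' := by
    rintro a b ⟨ha, c, hc⟩ ⟨hb, d, hd⟩
    exact ⟨mul_mem ha hb, c + d, (hc.mul hd).of_eq (up_mul c d)⟩
  inv_mem' := by
    rintro a ⟨ha, c, hc⟩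
    exact ⟨inv_mem ha, -c, hc.inv.of_eq (up_inv c)⟩

variable {M}

theorem mem_SL {s : G} : s ∈ SL M ↔ s ∈ S ∧ ∃ b, Al M 0 s (up b) := Iff.rfl

theorem SL_le : SL M ≤ S := fun _ h => h.1

end semi

section group

variable {G : Type u} [Group G] [Finite G] {F : Type} [Field F] [Finite F] [CharP F 2]
  (hG : IsCharacteristicTwoType G) (S : Sylow 2 G) {P : Subgroup G} (h : IsParS (S : Subgroup G) P)
  (M : NatK F (S : Subgroup G) P (zl (S : Subgroup G) P) (cv (S : Subgroup G) P) 1)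

include hG h in
/-- **`s ∈ S` acts linearly iff it acts as some `up b`, trivially on `D`** -/
theorem mem_SL_iff {s : G} (hs : s ∈ (S : Subgroup G)) : s ∈ SL M ↔ Semi M s 1 := by
  constructor
  · rintro ⟨-, b, hb⟩
    exact Semi.one_of_act fun v hv => hb.same hv
  · intro h1
    have hsP := h.le hs
    obtain ⟨φ, hφ, hadd, hnorm⟩ := RA.exists_phi M hsP
    have hV : ∀ x, ∃ v ∈ zl (S : Subgroup G) P, M.e v 0 = x := surj1
    -- `φ` is linear
    have hlin : ∀ (c : F) x, φ (c • x) = c • φ x := by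
      intro c x
      obtain ⟨v, hv, rfl⟩ := hV x
      obtain ⟨w, hw, hw1⟩ := hV (c • M.e v 0)
      rw [← hw1, ← hφ w hw, ← hφ v hv]
      exact h1 v hv w hw c hw1
    -- the iterates
    obtain ⟨n, hn⟩ := S.isPGroup' ⟨s, hs⟩
    have hn' : s ^ 2 ^ n = 1 := congrArg Subtype.val hn
    have hit : ∀ m : ℕ, ∀ v ∈ zl (S : Subgroup G) P, φ^[m] (M.e v 0) = M.e (s ^ m * v * (s ^ m)⁻¹) 0 := by
      intro m
      induction m with
      | zero => intro v _; simp
      | succ m ih =>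
        intro v hv
        have h5 := conj_mem_zl (pow_mem hsP m) hv
        have e1 : s * (s ^ m * v * (s ^ m)⁻¹) * s⁻¹ = s ^ (m + 1) * v * (s ^ (m + 1))⁻¹ := by
          rw [pow_succ']
          group
        rw [Function.iterate_succ_apply', ih v hv, ← hφ _ h5, e1]
    have hper : ∀ x, φ^[2 ^ n] x = x := by
      intro x
      obtain ⟨v, hv, rfl⟩ := hV x
      rw [hit _ v hv, hn']
      simp
    -- `φ` fixes the line
    obtain ⟨a, ha⟩ : ∃ a : F, φ ![1, 0] = ![a, 0] := by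
      obtain ⟨v, hv, hv1⟩ := hV ![1, 0]
      obtain ⟨π, hπ⟩ := M.line s hs
      have h2 := hπ v hv 0
      rw [Subsingleton.elim (π 0) 0] at h2
      refine ⟨M.e (s * v * s⁻¹) 0 0, ?_⟩
      rw [← hv1, ← hφ v hv]
      refine ext2 (by simp) ?_
      rw [h2.2 (by rw [hv1]; simp)]
      simp
    have hline : ∀ x : F, φ ![x, 0] = ![a * x, 0] := by
      intro x
      have e : (![x, 0] : Fin 2 → F) = x • ![1, 0] := by
        apply ext2
        · simp
        · simp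
      rw [e, hlin, ha]
      apply ext2
      · simp [mul_comm]
      · simp
    have hpow : ∀ m : ℕ, ∀ x : F, φ^[m] ![x, 0] = ![a ^ m * x, 0] := by
      intro m
      induction m with
      | zero => intro x; simp
      | succ m ih => intro x; rw [Function.iterate_succ_apply', ih, hline, pow_succ']; congr 1; ring
    have ha1 : a = 1 := by
      have h2 := hpow (2 ^ n) 1
      rw [hper] at h2
      have h3 : a ^ 2 ^ n = 1 := by simpa using (congrFun h2 0).symm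
      have h4 : (a - 1) ^ 2 ^ n = 0 := by rw [sub_pow_char_pow, one_pow, h3, sub_self]
      exact sub_eq_zero.1 (pow_eq_zero_iff (by positivity) |>.1 h4)
    obtain ⟨b, hb⟩ := RA.exists_up_of_norm φ hadd (fun x => by rw [hline, ha1, one_mul]) hnorm ⟨n, hper⟩
    obtain ⟨t, ht, htb⟩ := M.unip fun _ => b
    have htP := h.le ht
    have h2 : s * t⁻¹ ∈ kern M := by
      refine ⟨mul_mem hsP (inv_mem htP), fun v hv => e_ext ?_⟩
      have hu := conj_mem_zl (inv_mem htP) hv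
      have h3 := hφ _ hu
      have h4 := (acts_inv M htP htb).1 v hv 0
      have e : s * t⁻¹ * v * (s * t⁻¹)⁻¹ = s * (t⁻¹ * v * t⁻¹⁻¹) * s⁻¹ := by group
      rw [e, h3, hb, h4, ap_ap_inv]
    have h3 := comm_of_quot hG S h M one_pos (mul_mem hs (inv_mem ht)) h2
    refine ⟨hs, b, hsP, fun v hv i => ?_, fun d hd => ?_⟩
    · rw [Subsingleton.elim i 0, one1_same, hφ v hv, hb]
    · have h4 := h3 d (cv_le _ _ hd)
      have h5 := htb.2 d hd
      calc s * d = (s * t⁻¹) * (t * d) := by group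
        _ = (s * t⁻¹) * (d * t) := by rw [h5]
        _ = ((s * t⁻¹) * d) * t := by group
        _ = (d * (s * t⁻¹)) * t := by rw [h4]
        _ = d * s := by group

/-- the field automorphism of `s ∈ S` -/
noncomputable def sg (s : ↥(S : Subgroup G)) : F ≃+* F := Classical.choose (Semi.exists (M := M) h.le s.2)

theorem sg_spec (s : ↥(S : Subgroup G)) : Semi M (s : G) (sg S h M s) :=
  Classical.choose_spec (Semi.exists (M := M) h.le s.2)

/-- `S → Aut F` -/
noncomputable def sgHom : ↥(S : Subgroup G) →* (F ≃+* F) where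
  toFun := sg S h M
  map_one' := Semi.unique (M := M) (one_mem P) (sg_spec S h M 1) (by
    exact Semi.one_of_act (s := (1 : G)) (A := 1) fun v _ => by rw [one_mul, inv_one, mul_one, ap_one])
  map_mul' s t := Semi.unique (M := M) (mul_mem (h.le s.2) (h.le t.2)) (sg_spec S h M (s * t))
    (Semi.mul (M := M) (h.le t.2) (sg_spec S h M s) (sg_spec S h M t))

include hG in
theorem ker_sgHom : (sgHom S h M).ker = (SL M).subgroupOf (S : Subgroup G) := by
  ext s
  rw [MonoidHom.mem_ker, mem_subgroupOf, mem_SL_iff hG S h M s.2]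
  constructor
  · intro h1
    have h2 := sg_spec S h M s
    have h3 : sg S h M s = 1 := h1
    rwa [h3] at h2
  · intro h1
    exact Semi.unique (M := M) (h.le s.2) (sg_spec S h M s) h1

include hG h in
/-- **`|S : SL| ≤ |Aut F|`** -/
theorem relIndex_SL_le : (SL M).relIndex (S : Subgroup G) ≤ Nat.card (F ≃+* F) := by
  have h1 : (SL M).relIndex (S : Subgroup G) = (sgHom S h M).ker.index := by
    rw [ker_sgHom hG S h M]
    rfl
  have hfin : Finite (F ≃+* F) := Finite.of_injective (fun f : F ≃+* F => (f : F → F)) DFunLike.coe_injective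
  rw [h1, index_ker]
  exact Nat.card_le_card_of_injective _ Subtype.val_injective

include hG h in
theorem two_pow_relIndex_SL_le : 2 ^ (SL M).relIndex (S : Subgroup G) ≤ Nat.card F :=
  (Nat.pow_le_pow_right (by norm_num) (relIndex_SL_le hG S h M)).trans (two_pow_card_aut_le F)

end group

end Cfsg.Agent.Omega.NOThreeL.RF.GD

end

section


/-!
# NO-3L, `R ∩ (A)`, field automorphisms (NsF), (GD): the elements of `A = Ω₁(Z(O₂(P)))` of natural type (helper71)

`q : Sit F S P 1`, `M : NatK F S P (zl S P) (cv S P) 1`.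

* `XA M` = the elements `a ∈ A` fixed by the root group and additive under the torus
  (`[dg (l + m)] a = [dg l] a * [dg m] a`); an `F`-space on which `S` acts semilinearly, `S₀` trivially;
* **`XA_le`** : `XA M ≤ V` (Galois descent);
* **`cent_Nc_of_comm`** : a 2-element `w` of `N_G(O₂(P))` which commutes modulo `O₂(P)` with a lift of every element of
  `SL₂(F)` centralises `N = Nc M 0`.
-/

set_option autoImplicit false
set_option linter.unusedSectionVars false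
set_option linter.unusedVariables false

namespace Cfsg.Agent.Omega.NOThreeL.RF.GD

open Subgroup Cfsg Cfsg.Agent.Omega.MinPar
open Cfsg.Agent.ZN (zc zl o2)
open Cfsg.Agent.Omega.FrameFF Cfsg.Agent.Omega.FFThm Cfsg.Agent.Lib.SL2Mat
open Cfsg.Agent.Omega.NatPair (ap ap_add ap_mul ap_one ap_inj ext2 ap_zero' ap_one' ap_inv_ap ap_ap_inv)
open Cfsg.Agent.Omega.HOne (cv_le conj_mem_zl conj_mem_cv)
open Cfsg.Agent.Omega.IId.Cv Cfsg.Agent.Omega.IId.Ns
open Cfsg.Agent.Omega.IId.ThmCQ.Nsp (Sit LS mem_LS exists_b S_le_normalizer_LS o2_le_LS exists_norm)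
open Cfsg.Agent.MinSimple.VModule (zc_comm zc_sq zc_le mem_zc le_normalizer_o2 normalizer_le_normalizer_zc zc_le_zl
  o2_isPGroup o2_le)

universe u

attribute [local instance] aqComm

section X

variable {G : Type u} [Group G] [Finite G] {F : Type} [Field F] [Finite F] [CharP F 2] {S : Sylow 2 G}
  {P : Subgroup G} (M : NatK F (S : Subgroup G) P (zl (S : Subgroup G) P) (cv (S : Subgroup G) P) 1)

/-- the elements of natural type -/
def XA : Subgroup ↥(zc (o2 P)) where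
  carrier := {a | (∀ c : F, rh S M 0 (up c) a = a) ∧
    ∀ (l m : F) (hl : l ≠ 0) (hm : m ≠ 0) (hlm : l + m ≠ 0),
      rh S M 0 (dg (l + m) hlm) a = rh S M 0 (dg l hl) a * rh S M 0 (dg m hm) a}
  one_mem' := ⟨fun c => map_one _, fun l m hl hm hlm => by rw [map_one, map_one, map_one, mul_one]⟩
  mul_mem' := by
    rintro a b ⟨ha, ha'⟩ ⟨hb, hb'⟩
    refine ⟨fun c => by rw [map_mul, ha, hb], fun l m hl hm hlm => ?_⟩
    rw [map_mul, map_mul, map_mul, ha' l m hl hm hlm, hb' l m hl hm hlm, mul_mul_mul_comm]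
  inv_mem' := by
    rintro a ⟨ha, ha'⟩
    refine ⟨fun c => by rw [map_inv, ha], fun l m hl hm hlm => ?_⟩
    rw [map_inv, map_inv, map_inv, ha' l m hl hm hlm, mul_inv]

variable {M}

theorem mem_XA {a : ↥(zc (o2 P))} : a ∈ XA M ↔ (∀ c : F, rh S M 0 (up c) a = a) ∧
    ∀ (l m : F) (hl : l ≠ 0) (hm : m ≠ 0) (hlm : l + m ≠ 0),
      rh S M 0 (dg (l + m) hlm) a = rh S M 0 (dg l hl) a * rh S M 0 (dg m hm) a := Iff.rfl

variable (q : Sit F S P 1)

include q

/-- an element of `P` acting as `up c` fixes `XA` -/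
theorem XA_fix {a : ↥(zc (o2 P))} (ha : a ∈ XA M) {x : G} {c : F} (hx : Al M 0 x (up c)) : x * a * x⁻¹ = (a : G) := by
  rw [← rh_val q.hG S q.h q.hk M hx a, ha.1 c]

/-- `S₀` fixes `XA` -/
theorem XA_fix_SL {a : ↥(zc (o2 P))} (ha : a ∈ XA M) {s : G} (hs : s ∈ SL M) : s * a * s⁻¹ = (a : G) := by
  obtain ⟨-, b, hb⟩ := hs
  exact XA_fix q ha hb

/-- the torus preserves `XA` -/
theorem XA_dg {a : ↥(zc (o2 P))} (ha : a ∈ XA M) {l : F} (hl : l ≠ 0) : rh S M 0 (dg l hl) a ∈ XA M := by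
  have hmul := rh_mul q.hG S q.h q.hk M 0
  refine ⟨fun c => ?_, fun l' m' hl' hm' hlm => ?_⟩
  · have e : (up c : Matrix.SpecialLinearGroup (Fin 2) F) * dg l hl = dg l hl * up (c / l ^ 2) := by
      rw [dg_up]
      congr 2
      field_simp
    rw [← hmul, e, hmul, ha.1]
  · have e : ∀ (m : F) (hm : m ≠ 0), rh S M 0 (dg m hm) (rh S M 0 (dg l hl) a) =
        rh S M 0 (dg l hl) (rh S M 0 (dg m hm) a) := by
      intro m hm
      rw [← hmul, ← hmul, dg_mul_dg, dg_mul_dg]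
      congr 2
      apply ext_ent <;> simp [mul_comm]
    rw [e, e, e, ha.2 l' m' hl' hm' hlm, map_mul]

/-- `S` acts on `XA`, semilinearly -/
theorem XA_conj_dg {a : ↥(zc (o2 P))} {s : G} (hs : s ∈ (S : Subgroup G)) {τ : F ≃+* F} (hτ : Semi M s τ)
    (hu : ∀ c : F, rh S M 0 (up c) (cA (q.h.le hs) a) = cA (q.h.le hs) a) {l : F} (hl : l ≠ 0) :
    cA (q.h.le hs) (rh S M 0 (dg l hl) a) = rh S M 0 (dg (τ l) (by simpa using hl)) (cA (q.h.le hs) a) := by
  have hsP := q.h.le hs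
  have ht := lf_spec S M 0 (dg l hl)
  obtain ⟨c, hc⟩ := hτ.conj_dg q.h.le hs hl ht
  have h1 : cA hsP (rh S M 0 (dg l hl) a) = rh S M 0 (dg (τ l) (by simpa using hl) * up c) (cA hsP a) := by
    apply Subtype.ext
    rw [rh_val q.hG S q.h q.hk M hc, cA_val, cA_val, rh_val q.hG S q.h q.hk M ht]
    group
  rw [h1, rh_mul q.hG S q.h q.hk, hu]

/-- the conjugates of a vector fixed by the root group -/
theorem up_conj {a : ↥(zc (o2 P))} (ha : ∀ c : F, rh S M 0 (up c) a = a) {s : G} (hs : s ∈ (S : Subgroup G)) (c : F) :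
    rh S M 0 (up c) (cA (q.h.le hs) a) = cA (q.h.le hs) a := by
  obtain ⟨t, ht, htc⟩ := M.unip fun _ => c
  have htA : Al M 0 t (up c) := Al_iff.2 ⟨q.h.le ht, htc⟩
  have h1 : s⁻¹ * t * s ∈ LS M := by
    have := (mem_normalizer_iff.1 (inv_mem (S_le_normalizer_LS (M := M) q.h.le hs)) t).1 (mem_LS q.h.le ht htc)
    rwa [inv_inv] at this
  obtain ⟨b, hb⟩ := exists_b q.h.le h1
  have h2 : Al M 0 (s⁻¹ * t * s) (up (b 0)) := by
    refine Al_iff.2 ⟨q.h.le h1.1, ?_⟩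
    have e : (fun i => up (b i)) = fun _ : Fin 1 => (up (b 0) : Matrix.SpecialLinearGroup (Fin 2) F) :=
      funext fun i => by rw [Fin.eq_zero i]
    rwa [e] at hb
  have h3 : s⁻¹ * t * s * a * (s⁻¹ * t * s)⁻¹ = (a : G) := by
    rw [← rh_val q.hG S q.h q.hk M h2 a, ha]
  apply Subtype.ext
  rw [rh_val q.hG S q.h q.hk M htA, cA_val]
  calc t * (s * (a : G) * s⁻¹) * t⁻¹ = s * (s⁻¹ * t * s * a * (s⁻¹ * t * s)⁻¹) * s⁻¹ := by group
    _ = s * a * s⁻¹ := by rw [h3]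

theorem XA_conj {a : ↥(zc (o2 P))} (ha : a ∈ XA M) {s : G} (hs : s ∈ (S : Subgroup G)) :
    cA (q.h.le hs) a ∈ XA M := by
  obtain ⟨τ, hτ⟩ := Semi.exists (M := M) q.h.le hs
  have hu := up_conj q ha.1 hs
  refine ⟨hu, fun l m hl hm hlm => ?_⟩
  have hl' : τ.symm l ≠ 0 := by simpa using hl
  have hm' : τ.symm m ≠ 0 := by simpa using hm
  have hlm' : τ.symm l + τ.symm m ≠ 0 := by
    rw [← map_add]
    exact (map_ne_zero τ.symm).2 hlm
  have h1 := XA_conj_dg q hs hτ (a := a) hu hl'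
  have h2 := XA_conj_dg q hs hτ (a := a) hu hm'
  have h3 := XA_conj_dg q hs hτ (a := a) hu hlm'
  rw [ha.2 _ _ hl' hm' hlm', map_mul, h1, h2] at h3
  have e : ∀ (x y : F) (hx : x ≠ 0) (hy : y ≠ 0), x = y →
      rh S M 0 (dg x hx) (cA (q.h.le hs) a) = rh S M 0 (dg y hy) (cA (q.h.le hs) a) := by
    intro x y hx hy hxy
    subst hxy
    rfl
  have e1 := e (τ (τ.symm l)) l (by simpa using hl) hl (by simp)
  have e2 := e (τ (τ.symm m)) m (by simpa using hm) hm (by simp)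
  have e3 := e (τ (τ.symm l + τ.symm m)) (l + m) ((map_ne_zero τ).2 hlm') hlm (by simp)
  rw [e1, e2, e3] at h3
  exact h3.symm

/-! ### the `F`-space -/

open Classical in
/-- scalar multiplication -/
noncomputable def sm (l : F) : ↥(XA M) →* ↥(XA M) :=
  if hl : l = 0 then 1 else
    { toFun := fun a => ⟨rh S M 0 (dg l hl) a, XA_dg q a.2 hl⟩
      map_one' := Subtype.ext (map_one _)
      map_mul' := fun a b => Subtype.ext (map_mul _ _ _) }

theorem sm_zero (a : ↥(XA M)) : sm q (0 : F) a = 1 := by rw [sm, dif_pos rfl]; rfl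

theorem sm_val {l : F} (hl : l ≠ 0) (a : ↥(XA M)) :
    ((sm q l a : ↥(XA M)) : ↥(zc (o2 P))) = rh S M 0 (dg l hl) a := by rw [sm, dif_neg hl]; rfl

theorem XA_sq (a : ↥(XA M)) : a * a = 1 := Subtype.ext (A_sq _)

/-- the `F`-space structure -/
@[reducible] noncomputable def xMod : Module F (Additive ↥(XA M)) where
  smul l a := Additive.ofMul (sm q l a.toMul)
  one_smul a := by
    show Additive.ofMul (sm q (1 : F) a.toMul) = a
    have h1 : sm q (1 : F) a.toMul = a.toMul := by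
      apply Subtype.ext
      rw [sm_val q one_ne_zero]
      have e : (dg 1 one_ne_zero : Matrix.SpecialLinearGroup (Fin 2) F) = 1 := by apply ext_ent <;> simp
      rw [e, rh_one q.hG S q.h q.hk]
    rw [h1]; rfl
  mul_smul l m a := by
    show Additive.ofMul (sm q (l * m) a.toMul) = Additive.ofMul (sm q l (sm q m a.toMul))
    congr 1
    by_cases hl : l = 0
    · rw [hl, zero_mul, sm_zero, sm_zero]
    by_cases hm : m = 0
    · rw [hm, mul_zero, sm_zero, map_one]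
    apply Subtype.ext
    rw [sm_val q (mul_ne_zero hl hm), sm_val q hl, sm_val q hm, ← rh_mul q.hG S q.h q.hk, dg_mul_dg]
  smul_zero l := by
    show Additive.ofMul (sm q l 1) = 0
    rw [map_one]; rfl
  smul_add l a b := by
    show Additive.ofMul (sm q l (a.toMul * b.toMul)) = _
    rw [map_mul]; rfl
  add_smul l m a := by
    show Additive.ofMul (sm q (l + m) a.toMul) = Additive.ofMul (sm q l a.toMul * sm q m a.toMul)
    congr 1
    by_cases hl : l = 0
    · rw [hl, zero_add, sm_zero, one_mul]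
    by_cases hm : m = 0
    · rw [hm, add_zero, sm_zero, mul_one]
    by_cases hlm : l + m = 0
    · rw [hlm, sm_zero]
      have h1 : m = l := (CharTwo.add_eq_zero.1 hlm).symm
      rw [h1, XA_sq q]
    apply Subtype.ext
    show _ = ((sm q l a.toMul : ↥(XA M)) : ↥(zc (o2 P))) * ((sm q m a.toMul : ↥(XA M)) : ↥(zc (o2 P)))
    rw [sm_val q hlm, sm_val q hl, sm_val q hm]
    exact a.toMul.2.2 l m hl hm hlm
  zero_smul a := by
    show Additive.ofMul (sm q (0 : F) a.toMul) = 0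
    rw [sm_zero]; rfl

/-- conjugation by `s ∈ S` -/
def cX {s : G} (hs : s ∈ (S : Subgroup G)) : Additive ↥(XA M) →+ Additive ↥(XA M) where
  toFun a := Additive.ofMul ⟨cA (q.h.le hs) (a.toMul : ↥(XA M)), XA_conj q a.toMul.2 hs⟩
  map_zero' := by
    show Additive.ofMul _ = Additive.ofMul (1 : ↥(XA M))
    congr 1
    exact Subtype.ext (map_one (cA (q.h.le hs)))
  map_add' a b := by
    show Additive.ofMul _ = Additive.ofMul _
    congr 1
    exact Subtype.ext (map_mul (cA (q.h.le hs)) _ _)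

theorem cX_val {s : G} (hs : s ∈ (S : Subgroup G)) (a : Additive ↥(XA M)) :
    (((cX q hs a).toMul : ↥(XA M)) : ↥(zc (o2 P))) = cA (q.h.le hs) (a.toMul : ↥(XA M)) := rfl

/-- the vectors of `V` -/
noncomputable def VX : @Submodule F (Additive ↥(XA M)) _ _ (xMod q) :=
  letI := xMod (M := M) q
  { carrier := {a | ((a.toMul : ↥(XA M)) : ↥(zc (o2 P))) ∈ VA S P}
    zero_mem' := one_mem (VA S P)
    add_mem' := fun {a b} ha hb => by
      show ((a.toMul * b.toMul : ↥(XA M)) : ↥(zc (o2 P))) ∈ VA S P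
      have ha' : ((a.toMul : ↥(XA M)) : ↥(zc (o2 P))) ∈ VA S P := ha
      have hb' : ((b.toMul : ↥(XA M)) : ↥(zc (o2 P))) ∈ VA S P := hb
      exact mul_mem ha' hb'
    smul_mem' := fun c a ha => by
      show ((sm q c a.toMul : ↥(XA M)) : ↥(zc (o2 P))) ∈ VA S P
      by_cases hc : c = 0
      · rw [hc, sm_zero]; exact one_mem _
      · rw [sm_val q hc]; exact rh_VA S M 0 _ ha }

/-- **`XA ≤ V`** -/
theorem XA_le {a : ↥(zc (o2 P))} (ha : a ∈ XA M) : (a : G) ∈ zl (S : Subgroup G) P := by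
  classical
  let _ := xMod (M := M) q
  let ι := ↥(sgHom S q.h M).range
  have hfinE : Finite (F ≃+* F) := Finite.of_injective (fun f : F ≃+* F => (f : F → F)) DFunLike.coe_injective
  have : Fintype ι := Fintype.ofFinite _
  choose s hs using fun i : ι => MonoidHom.mem_range.1 i.2
  have hsS : ∀ i, ((s i : ↥(S : Subgroup G)) : G) ∈ (S : Subgroup G) := fun i => (s i).2
  let ρ : ι → Additive ↥(XA M) →+ Additive ↥(XA M) := fun i => cX q (hsS i)
  have hsemi : ∀ i, Semi M ((s i : ↥(S : Subgroup G)) : G) (i : F ≃+* F) := by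
    intro i
    have h1 := sg_spec S q.h M (s i)
    have h2 : sg S q.h M (s i) = (i : F ≃+* F) := hs i
    rwa [h2] at h1
  have key := descent (F := F) (X := Additive ↥(XA M)) ρ (fun i => (i : F ≃+* F)) Subtype.val_injective (by
    intro i c x
    show cX q (hsS i) (Additive.ofMul (sm q c x.toMul)) = Additive.ofMul (sm q ((i : F ≃+* F) c) (cX q (hsS i) x).toMul)
    apply Additive.toMul.injective
    apply Subtype.ext
    rw [cX_val]
    by_cases hc : c = 0
    · rw [hc, map_zero]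
      show cA (q.h.le (hsS i)) ((sm q (0 : F) x.toMul : ↥(XA M)) : ↥(zc (o2 P))) =
        ((sm q (0 : F) (cX q (hsS i) x).toMul : ↥(XA M)) : ↥(zc (o2 P)))
      rw [sm_zero, sm_zero]
      exact map_one _
    · have hc' : (i : F ≃+* F) c ≠ 0 := by simpa using hc
      show cA (q.h.le (hsS i)) ((sm q c x.toMul : ↥(XA M)) : ↥(zc (o2 P))) =
        ((sm q ((i : F ≃+* F) c) (cX q (hsS i) x).toMul : ↥(XA M)) : ↥(zc (o2 P)))
      rw [sm_val q hc, sm_val q hc', cX_val]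
      exact XA_conj_dg q (hsS i) (hsemi i) (up_conj q x.toMul.2.1 (hsS i)) hc) (VX q) (by
    intro x
    -- the sum is fixed by `S`
    set y : ↥(zc (o2 P)) := (((∑ i, ρ i x).toMul : ↥(XA M)) : ↥(zc (o2 P))) with hy
    have hyp : y = ∏ i, cA (q.h.le (hsS i)) (x.toMul : ↥(XA M)) := by
      have h1 : y = (XA M).subtype (Additive.toMul (∑ i, ρ i x)) := rfl
      rw [h1, toMul_sum, map_prod]
      rfl
    have hfix : ∀ g (hg : g ∈ (S : Subgroup G)), cA (q.h.le hg) y = y := by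
      intro g hg
      let gi : ι := ⟨sgHom S q.h M ⟨g, hg⟩, ⟨⟨g, hg⟩, rfl⟩⟩
      rw [hyp, map_prod]
      refine Fintype.prod_equiv (Equiv.mulLeft gi) _ _ fun i => ?_
      apply Subtype.ext
      show g * (((s i : ↥(S : Subgroup G)) : G) * ((x.toMul : ↥(XA M)) : ↥(zc (o2 P))) * ((s i : ↥(S : Subgroup G)) : G)⁻¹) * g⁻¹ =
        ((s (gi * i) : ↥(S : Subgroup G)) : G) * ((x.toMul : ↥(XA M)) : ↥(zc (o2 P))) *
          ((s (gi * i) : ↥(S : Subgroup G)) : G)⁻¹
      have h1 : (s (gi * i))⁻¹ * (⟨g, hg⟩ * s i) ∈ (sgHom S q.h M).ker := by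
        rw [MonoidHom.mem_ker, map_mul, map_inv, map_mul, hs, hs]
        show ((gi * i : ι) : F ≃+* F)⁻¹ * ((gi : F ≃+* F) * (i : F ≃+* F)) = 1
        rw [show ((gi * i : ι) : F ≃+* F) = (gi : F ≃+* F) * (i : F ≃+* F) from rfl, inv_mul_cancel]
      rw [ker_sgHom q.hG S q.h M, mem_subgroupOf] at h1
      have h2 := XA_fix_SL q x.toMul.2 h1
      have h3 : ((((s (gi * i))⁻¹ * (⟨g, hg⟩ * s i) : ↥(S : Subgroup G)) : G)) =
        ((s (gi * i) : ↥(S : Subgroup G)) : G)⁻¹ * (g * ((s i : ↥(S : Subgroup G)) : G)) := rfl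
      rw [h3] at h2
      set u : G := ((s (gi * i) : ↥(S : Subgroup G)) : G) with hu
      set v : G := ((s i : ↥(S : Subgroup G)) : G) with hv
      set z : G := (((x.toMul : ↥(XA M)) : ↥(zc (o2 P))) : G) with hz
      calc g * (v * z * v⁻¹) * g⁻¹ = u * (u⁻¹ * (g * v) * z * (u⁻¹ * (g * v))⁻¹) * u⁻¹ := by group
        _ = u * z * u⁻¹ := by rw [h2]
    show y ∈ VA S P
    rw [mem_VA]
    apply Cfsg.Agent.MinSimple.VModule.zc_le_zl
    rw [mem_zc]
    refine ⟨(q.h.isLoc.o2_le S) (zc_le _ y.2), fun g hg => ?_, zc_sq _ _ y.2⟩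
    have h1 := congrArg Subtype.val (hfix g hg)
    rw [cA_val] at h1
    exact mul_inv_eq_iff_eq_mul.1 h1)
  have h1 := key 1 (Additive.ofMul ⟨a, ha⟩)
  have h2 : cA (q.h.le (hsS 1)) a ∈ VA S P := h1
  rw [mem_VA, cA_val] at h2
  have h3 := conj_mem_zl (inv_mem (q.h.le (hsS 1))) h2
  have e : ((s 1 : ↥(S : Subgroup G)) : G)⁻¹ * (((s 1 : ↥(S : Subgroup G)) : G) * (a : G) * ((s 1 : ↥(S : Subgroup G)) : G)⁻¹) *
    ((s 1 : ↥(S : Subgroup G)) : G)⁻¹⁻¹ = a := by group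
  rwa [e] at h3

/-! ### `R` and `w` -/

omit q in
theorem Al_dg_one_add {ω : F} (h0 : ω ≠ 0) (h1 : ω ≠ 1) : ω + 1 ≠ 0 := fun h => h1 (CharTwo.add_eq_zero.1 h)

/-- an additive element of `A` centralised by the torus is trivial -/
theorem eq_one_of_fix {a : ↥(zc (o2 P))} (ha : a ∈ XA M) (hf : ∀ (l : F) (hl : l ≠ 0), rh S M 0 (dg l hl) a = a) :
    a = 1 := by
  obtain ⟨ω, h0, h1⟩ := exists_omega q.hF
  have h2 := ha.2 ω 1 h0 one_ne_zero (Al_dg_one_add h0 h1)
  rw [hf, hf, hf, A_sq] at h2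
  exact h2

/-- `R ≤ XA` -/
theorem R_XA {a : ↥(zc (o2 P))} (ha : (a : G) ∈ Rt M) : a ∈ XA M := by
  have haV := R_le_V q ha
  refine ⟨fun c => ?_, fun l m hl hm hlm => ?_⟩
  · obtain ⟨t, ht, htc⟩ := M.unip fun _ => c
    apply Subtype.ext
    rw [rh_val q.hG S q.h q.hk M (Al_iff.2 ⟨q.h.le ht, htc⟩),
      Zp_comm q (R_le_Zp q ha) (mem_LS q.h.le ht htc), mul_inv_cancel_right]
  · have hx := lf_spec S M 0 (dg l hl)
    have hy := lf_spec S M 0 (dg m hm)
    have hz := lf_spec S M 0 (dg (l + m) hlm)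
    apply Subtype.ext
    show ((rh S M 0 (dg (l + m) hlm) a : ↥(zc (o2 P))) : G) =
      ((rh S M 0 (dg l hl) a : ↥(zc (o2 P))) : G) * ((rh S M 0 (dg m hm) a : ↥(zc (o2 P))) : G)
    rw [rh_val q.hG S q.h q.hk M hx, rh_val q.hG S q.h q.hk M hy, rh_val q.hG S q.h q.hk M hz]
    have hR : ∀ {t : F} {ht : t ≠ 0} {g : G}, Al M 0 g (dg t ht) → g * a * g⁻¹ ∈ Rt M := fun {t ht g} hg =>
      tri_norm_R q hg.1 (by simp) (Al_iff.1 hg).2 ha
    have he : ∀ {t : F} {ht : t ≠ 0} {g : G}, Al M 0 g (dg t ht) → M.e (g * a * g⁻¹) 0 0 = t * M.e (a : G) 0 0 := by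
      intro t ht g hg
      rw [hg.same haV, ap_zero']
      simp
    refine R_inj q (hR hz) (mul_mem (hR hx) (hR hy)) ?_
    rw [e_add (hx.V haV) (hy.V haV), he hx, he hy, he hz]
    ring

/-- `XA ≤ R` -/
theorem XA_R {a : ↥(zc (o2 P))} (ha : a ∈ XA M) : (a : G) ∈ Rt M := by
  have haV := XA_le q ha
  have hZ : (a : G) ∈ Zp M := by
    rw [Zp_eq q]
    refine mem_inf.2 ⟨haV, mem_centralizer_iff.2 fun s hs => ?_⟩
    have h1 := XA_fix q ha (Al_iff.2 ⟨q.h.le hs.1, bet_LS q hs⟩)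
    exact mul_inv_eq_iff_eq_mul.1 h1
  obtain ⟨r, hr, d, hd, had⟩ := exists_rd q hZ
  have hrA : r ∈ zc (o2 P) := zl_le_A q.hG S q.h (R_le_V q hr)
  have hdA : d ∈ zc (o2 P) := zl_le_A q.hG S q.h (cv_le _ _ hd)
  have hrX : (⟨r, hrA⟩ : ↥(zc (o2 P))) ∈ XA M := R_XA q hr
  have hdX : (⟨d, hdA⟩ : ↥(zc (o2 P))) ∈ XA M := by
    have e : (⟨d, hdA⟩ : ↥(zc (o2 P))) = (⟨r, hrA⟩ : ↥(zc (o2 P)))⁻¹ * a := by
      apply Subtype.ext
      show d = r⁻¹ * (a : G)
      rw [had]; group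
    rw [e]
    exact mul_mem (inv_mem hrX) ha
  have hd1 := eq_one_of_fix q hdX (fun l hl => by
    have hx := lf_spec S M 0 (dg l hl)
    apply Subtype.ext
    rw [rh_val q.hG S q.h q.hk M hx]
    show lf S M 0 (dg l hl) * d * (lf S M 0 (dg l hl))⁻¹ = d
    rw [hx.D hd, mul_inv_cancel_right])
  have hd2 : d = 1 := congrArg Subtype.val hd1
  rw [had, hd2, mul_one]
  exact hr

/-- an element of `N_G(O₂(P))` which commutes with `x` modulo `O₂(P)` commutes with `x` on `A` -/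
theorem comm_A {w x : G} (hw : w ∈ normalizer (o2 P : Set G)) (hx : x ∈ P) (hc : x * w * x⁻¹ * w⁻¹ ∈ o2 P) {a : G}
    (ha : a ∈ zc (o2 P)) : w * (x * a * x⁻¹) * w⁻¹ = x * (w * a * w⁻¹) * x⁻¹ := by
  have h1 : x * a * x⁻¹ ∈ zc (o2 P) := A_mem hx ha
  have h2 : w * (x * a * x⁻¹) * w⁻¹ ∈ zc (o2 P) :=
    (mem_normalizer_iff.1 (normalizer_le_normalizer_zc _ hw) _).1 h1
  have h3 := (mem_zc.1 h2).2.1 _ hc
  calc w * (x * a * x⁻¹) * w⁻¹ = (w * (x * a * x⁻¹) * w⁻¹) * (x * w * x⁻¹ * w⁻¹) * (x * w * x⁻¹ * w⁻¹)⁻¹ := by group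
    _ = (x * w * x⁻¹ * w⁻¹) * (w * (x * a * x⁻¹) * w⁻¹) * (x * w * x⁻¹ * w⁻¹)⁻¹ := by rw [h3]
    _ = _ := by group

/-- **a 2-element of `N_G(O₂(P))` which commutes with the lifts modulo `O₂(P)` centralises `Nc M 0`** -/
theorem cent_Nc_of_comm {w : G} (hw : w ∈ normalizer (o2 P : Set G)) {n : ℕ} (hw2 : w ^ 2 ^ n = 1)
    (hc : ∀ B : Matrix.SpecialLinearGroup (Fin 2) F, ∃ x, Al M 0 x B ∧ x * w * x⁻¹ * w⁻¹ ∈ o2 P) :
    w ∈ centralizer (Nc M 0 : Set G) := by
  have hwA : ∀ {a : G}, a ∈ zc (o2 P) → w * a * w⁻¹ ∈ zc (o2 P) := fun {a} ha =>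
    (mem_normalizer_iff.1 (normalizer_le_normalizer_zc _ hw) _).1 ha
  -- `w` commutes with all lifts on `A`
  have hcomm : ∀ {B : Matrix.SpecialLinearGroup (Fin 2) F} {y : G}, Al M 0 y B → ∀ {a : G}, a ∈ zc (o2 P) →
      w * (y * a * y⁻¹) * w⁻¹ = y * (w * a * w⁻¹) * y⁻¹ := by
    intro B y hy a ha
    obtain ⟨x, hx, hxc⟩ := hc B
    rw [Al.eq_A q.hG S q.h q.hk hy hx ha, comm_A q hw hx.1 hxc ha, Al.eq_A q.hG S q.h q.hk hy hx (hwA ha)]
  -- `w R w⁻¹ ≤ R`
  have hR : ∀ r ∈ Rt M, w * r * w⁻¹ ∈ Rt M := by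
    intro r hr
    have hrA : r ∈ zc (o2 P) := zl_le_A q.hG S q.h (R_le_V q hr)
    have hrX : (⟨r, hrA⟩ : ↥(zc (o2 P))) ∈ XA M := R_XA q hr
    have hval : ∀ B : Matrix.SpecialLinearGroup (Fin 2) F,
        ((rh S M 0 B ⟨w * r * w⁻¹, hwA hrA⟩ : ↥(zc (o2 P))) : G) =
          w * ((rh S M 0 B ⟨r, hrA⟩ : ↥(zc (o2 P))) : G) * w⁻¹ := by
      intro B
      have hx := lf_spec S M 0 B
      rw [rh_val q.hG S q.h q.hk M hx, rh_val q.hG S q.h q.hk M hx]
      exact (hcomm hx hrA).symm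
    refine XA_R q (a := ⟨w * r * w⁻¹, hwA hrA⟩) ⟨fun c => ?_, fun l m hl hm hlm => ?_⟩
    · apply Subtype.ext
      rw [hval, hrX.1 c]
    · apply Subtype.ext
      rw [hval, hrX.2 l m hl hm hlm]
      show w * (((rh S M 0 (dg l hl) ⟨r, hrA⟩ : ↥(zc (o2 P))) : G) * ((rh S M 0 (dg m hm) ⟨r, hrA⟩ : ↥(zc (o2 P))) : G)) * w⁻¹ =
        ((rh S M 0 (dg l hl) ⟨w * r * w⁻¹, hwA hrA⟩ : ↥(zc (o2 P))) : G) *
          ((rh S M 0 (dg m hm) ⟨w * r * w⁻¹, hwA hrA⟩ : ↥(zc (o2 P))) : G)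
      rw [hval, hval]
      group
  -- the coordinate
  obtain ⟨r1, hr1, he1⟩ := exists_R (M := M) q 1
  set μ : F := M.e (w * r1 * w⁻¹) 0 0 with hμ
  have hcoord : ∀ r ∈ Rt M, M.e (w * r * w⁻¹) 0 0 = M.e r 0 0 * μ := by
    intro r hr
    by_cases h0 : M.e r 0 0 = 0
    · have h1 := R_eq_one q hr h0
      rw [h1, mul_one, mul_inv_cancel, e_one M]
      simp
    · obtain ⟨y, hy⟩ := exists_Al M 0 (dg (M.e r 0 0) h0)
      have hr1V := R_le_V q hr1
      have h1 : y * r1 * y⁻¹ = r := by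
        refine R_inj q (tri_norm_R q hy.1 (by simp) (Al_iff.1 hy).2 hr1) hr ?_
        rw [hy.same hr1V, ap_zero', he1]
        simp
      have h2 := hcomm hy (zl_le_A q.hG S q.h hr1V)
      rw [h1] at h2
      rw [h2, hy.same (R_le_V q (hR _ hr1)), ap_zero']
      simp [hμ]
  have hpow : ∀ m : ℕ, ∀ r ∈ Rt M, w ^ m * r * (w ^ m)⁻¹ ∈ Rt M ∧ M.e (w ^ m * r * (w ^ m)⁻¹) 0 0 = M.e r 0 0 * μ ^ m := by
    intro m
    induction m with
    | zero => intro r hr; simpa using hr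
    | succ m ih =>
      intro r hr
      obtain ⟨h1, h2⟩ := ih r hr
      have e : w ^ (m + 1) * r * (w ^ (m + 1))⁻¹ = w * (w ^ m * r * (w ^ m)⁻¹) * w⁻¹ := by
        rw [pow_succ']; group
      rw [e]
      refine ⟨hR _ h1, ?_⟩
      rw [hcoord _ h1, h2, pow_succ]
      ring
  have hμ1 : μ = 1 := by
    have h1 := (hpow (2 ^ n) r1 hr1).2
    rw [hw2, one_mul, inv_one, mul_one, he1, one_mul] at h1
    have h4 : (μ - 1) ^ 2 ^ n = 0 := by rw [sub_pow_char_pow, one_pow, ← h1, sub_self]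
    exact sub_eq_zero.1 (pow_eq_zero_iff (by positivity) |>.1 h4)
  have hwR : ∀ r ∈ Rt M, w * r * w⁻¹ = r := by
    intro r hr
    refine R_inj q (hR r hr) hr ?_
    rw [hcoord r hr, hμ1, mul_one]
  -- `Nc`
  rw [mem_centralizer_iff]
  intro v hv
  have key : w * v * w⁻¹ = v := by
    induction hv using closure_induction with
    | mem v hv =>
      obtain ⟨y, hy, v, hv, rfl⟩ := hv
      obtain ⟨B, hB⟩ := exists_of_Fc hy
      by_cases h0 : M.e v 0 = 0
      · rw [fix_ker q.hG S q.h q.hk q.hF hB hv h0]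
        group
      · obtain ⟨C, hC⟩ := NatPair.exists_ap (x := ![(1 : F), 0]) (y := M.e v 0) (by
          intro h
          have := congrFun h 0
          simp at this) h0
        obtain ⟨g, hg⟩ := exists_Al M 0 C
        have hr1V := R_le_V q hr1
        have hr1A := zl_le_A q.hG S q.h hr1V
        have h1 : M.e v 0 = M.e (g * r1 * g⁻¹) 0 := by
          rw [hg.same hr1V, ← hC]
          congr 1
          exact (ext2 he1 (R_le_Zp q hr1).2).symm
        have h2 := comm_eq q.hG S q.h q.hk q.hF hB hv (hg.V hr1V) h1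
        have h3 : w * (g * r1 * g⁻¹) * w⁻¹ = g * r1 * g⁻¹ := by rw [hcomm hg hr1A, hwR _ hr1]
        have h4 : w * (y * (g * r1 * g⁻¹) * y⁻¹) * w⁻¹ = y * (g * r1 * g⁻¹) * y⁻¹ := by
          rw [hcomm hB (A_mem hg.1 hr1A), h3]
        rw [h2]
        calc w * (y * (g * r1 * g⁻¹) * y⁻¹ * (g * r1 * g⁻¹)⁻¹) * w⁻¹
            = (w * (y * (g * r1 * g⁻¹) * y⁻¹) * w⁻¹) * (w * (g * r1 * g⁻¹) * w⁻¹)⁻¹ := by group
          _ = _ := by rw [h4, h3]
    | one => group
    | mul a b _ _ ha hb =>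
      calc w * (a * b) * w⁻¹ = (w * a * w⁻¹) * (w * b * w⁻¹) := by group
        _ = a * b := by rw [ha, hb]
    | inv a _ ha =>
      calc w * a⁻¹ * w⁻¹ = (w * a * w⁻¹)⁻¹ := by group
        _ = a⁻¹ := by rw [ha]
  exact (mul_inv_eq_iff_eq_mul.1 key).symm

end X

end Cfsg.Agent.Omega.NOThreeL.RF.GD

end

section


/-!
# NO-3L, `R ∩ (A)`, field automorphisms (NsF): (GD) of #21360 (helper71)

`q : Sit F S P 1`, `M : NatK F S P (zl S P) (cv S P) 1` (`4 ≤ |F|`, `P` acts on `V / D` as a group between `SL₂(F)` and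
`ΓL₂(F)`, split or nonsplit), `PL M` = the elements of `P` acting as elements of `SL₂(F)` (trivially on `D`).

* **`le_o2_of_norm`** : a 2-subgroup `W` of `G` normalised by `PL M` is contained in `O₂(P)`;
* **`gd`** : `1 ≠ x ∈ D` ⟹ `O₂(C(x)) ≤ O₂(P)`, `V ≤ O₂(C(x))`, `V` centralises `O₂(C(x))`;
  `gd'` : the same for `C(X)`, `1 ≠ X ≤ D`.
-/

set_option autoImplicit false
set_option linter.unusedSectionVars false
set_option linter.unusedVariables false

namespace Cfsg.Agent.Omega.NOThreeL.RF.GD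

open Subgroup Cfsg Cfsg.Agent.Omega.MinPar
open Cfsg.Agent.ZN (zc zl o2 normalizer_le_normalizer_o2)
open Cfsg.Agent.ZN.ChoiceBase (cj card_cj)
open Cfsg.Agent.Omega.FrameFF Cfsg.Agent.Omega.FFThm Cfsg.Agent.Lib.SL2Mat
open Cfsg.Agent.Omega.NatPair (ap ap_add ap_mul ap_one ap_inj ext2 ap_zero' ap_one' ap_inv_ap ap_ap_inv)
open Cfsg.Agent.Omega.HOne (cv_le conj_mem_zl conj_mem_cv)
open Cfsg.Agent.Omega.IId.Cv Cfsg.Agent.Omega.IId.Ns
open Cfsg.Agent.Omega.IId.ThmCQ.Nsp (Sit LS PL PL_le LS_le LS_isPGroup mem_LS exists_b S_le_normalizer_LS o2_le_LS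
  exists_norm)
open Cfsg.Agent.MinSimple.VModule (zc_comm zc_sq zc_le mem_zc le_normalizer_o2 normalizer_le_normalizer_zc zc_le_zl
  o2_isPGroup o2_le)

universe u

variable {G : Type u} [Group G] [Finite G] {F : Type} [Field F] [Finite F] [CharP F 2] {S : Sylow 2 G}
  {P : Subgroup G} {M : NatK F (S : Subgroup G) P (zl (S : Subgroup G) P) (cv (S : Subgroup G) P) 1}

section basic

theorem conj_mem {H : Subgroup G} {g x : G} (hg : g ∈ normalizer (H : Set G)) (hx : x ∈ H) : g * x * g⁻¹ ∈ H :=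
  (mem_normalizer_iff.1 hg x).1 hx

theorem conj_mem' {H : Subgroup G} {g x : G} (hg : g ∈ normalizer (H : Set G)) (hx : x ∈ H) : g⁻¹ * x * g ∈ H := by
  have := conj_mem (inv_mem hg) hx
  rwa [inv_inv] at this

theorem conj_cent {V : Subgroup G} {g w : G} (hg : g ∈ normalizer (V : Set G)) (hw : w ∈ centralizer (V : Set G)) :
    g * w * g⁻¹ ∈ centralizer (V : Set G) := by
  rw [mem_centralizer_iff] at hw ⊢
  intro v hv
  have h1 := hw _ (conj_mem' hg hv)
  calc v * (g * w * g⁻¹) = g * (g⁻¹ * v * g * w) * g⁻¹ := by group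
    _ = g * (w * (g⁻¹ * v * g)) * g⁻¹ := by rw [h1]
    _ = _ := by group

variable (q : Sit F S P 1)
include q

theorem P_norm : P ≤ normalizer (o2 P : Set G) := le_normalizer_o2 P

/-- a 2-element of `P` centralising `V` is in `O₂(P)` -/
theorem mem_o2_of_cent {w : G} (hw : w ∈ P) (h2 : ∃ n : ℕ, w ^ 2 ^ n = 1)
    (hc : w ∈ centralizer (zl (S : Subgroup G) P : Set G)) : w ∈ o2 P := by
  obtain ⟨n, hn⟩ := h2
  have hz : IsPGroup 2 (zpowers w) := by
    rintro ⟨x, j, rfl⟩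
    refine ⟨n, Subtype.ext ?_⟩
    change (w ^ j) ^ 2 ^ n = 1
    rw [← zpow_natCast, ← zpow_mul, mul_comm, zpow_mul, zpow_natCast, hn, one_zpow]
  obtain ⟨p, hp, h1⟩ := FFThm.exists_conj_le S q.h.le hz (zpowers_le.2 hw)
  have h2 : p * w * p⁻¹ ∈ (S : Subgroup G) := h1 ⟨w, mem_zpowers w, rfl⟩
  have h4 : p * w * p⁻¹ ∈ o2 P := by
    rw [← q.h.inf_centralizer S q.hG]
    exact mem_inf.2 ⟨h2, conj_cent (P_norm_V q hp) hc⟩
  exact (mem_normalizer_iff.1 (P_norm q hp) w).2 h4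

/-- an element of `S₀` acting trivially is in `O₂(P)` -/
theorem mem_o2_of_bet {s : G} (hs : s ∈ LS M) (h0 : bet M s = 0) : s ∈ o2 P := by
  rw [← q.h.inf_centralizer S q.hG]
  exact mem_inf.2 ⟨hs.1, (bet_eq_zero q hs).1 h0⟩

theorem bet_inv {s : G} (hs : s ∈ LS M) : bet M s⁻¹ = bet M s := by
  have h1 := bet_mul q hs (inv_mem hs)
  rw [mul_inv_cancel, bet_one q] at h1
  exact (CharTwo.add_eq_zero.1 h1.symm).symm

/-- two elements of `S₀` acting in the same way differ by an element of `O₂(P)` -/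
theorem mem_o2_of_bet_eq {s t : G} (hs : s ∈ LS M) (ht : t ∈ LS M) (h : bet M s = bet M t) : s⁻¹ * t ∈ o2 P := by
  refine mem_o2_of_bet (M := M) q (mul_mem (inv_mem hs) ht) ?_
  rw [bet_mul q (inv_mem hs) ht, bet_inv q hs, h, two_eq]

/-- a 2-subgroup of `P` normalised by the lifts is in `O₂(P)` -/
theorem inf_le_o2 {K : Subgroup G} (hK : IsPGroup 2 K) (hKP : K ≤ P) (hPK : PL M ≤ normalizer (K : Set G)) :
    K ≤ o2 P := by
  intro w hw
  have h1 := triv_of_norm S (M := M) hK hKP (i := 0) (fun w hw => Mv0 q (hKP hw)) (fun B => by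
    obtain ⟨x, hx⟩ := exists_Al M 0 B
    exact ⟨x, hx, fun w hw => conj_mem' (hPK ⟨hx.1, _, hx.2⟩) hw⟩) w hw
  obtain ⟨n, hn⟩ := hK ⟨w, hw⟩
  have hn' : w ^ 2 ^ n = 1 := congrArg Subtype.val hn
  have h2 := comm_of_quot_two q.hG S q.h M q.hk (u := w) ⟨hKP hw, fun v hv => e_ext (h1 v hv)⟩ ⟨n, hn'⟩
  exact mem_o2_of_cent q (hKP hw) ⟨n, hn'⟩ (mem_centralizer_iff.2 fun v hv => (h2 v hv).symm)

omit q in
theorem exists_sqrt (x : F) : ∃ t : F, t ^ 2 = x := by
  have : Fact (Nat.Prime 2) := ⟨Nat.prime_two⟩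
  obtain ⟨t, ht⟩ := Finite.surjective_of_injective (frobenius_inj F 2) x
  exact ⟨t, ht⟩

end basic

/-! ### The action on `W₁ O₂(P) / O₂(P)` -/

section one

/-- `[s, W₁] ≤ O₂(P)` -/
def Tr (P W₁ : Subgroup G) (s : G) : Prop := ∀ w ∈ W₁, w⁻¹ * (s * w * s⁻¹) ∈ o2 P

variable {W₁ : Subgroup G}

theorem Tr.mul {s t : G} (hs : Tr P W₁ s) (ht : Tr P W₁ t) (hsP : s ∈ P) : Tr P W₁ (s * t) := by
  intro w hw
  have h1 := conj_mem (le_normalizer_o2 P hsP) (ht w hw)
  have e : w⁻¹ * (s * t * w * (s * t)⁻¹) = w⁻¹ * (s * w * s⁻¹) * (s * (w⁻¹ * (t * w * t⁻¹)) * s⁻¹) := by group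
  rw [e]
  exact mul_mem (hs w hw) h1

theorem Tr.of_o2 (hW : W₁ ≤ normalizer (o2 P : Set G)) {z : G} (hz : z ∈ o2 P) : Tr P W₁ z := by
  intro w hw
  have e : w⁻¹ * (z * w * z⁻¹) = w⁻¹ * z * w * z⁻¹ := by group
  rw [e]
  exact mul_mem (conj_mem' (hW hw) hz) (inv_mem hz)

theorem Tr.conj {s g : G} (hs : Tr P W₁ s) (hg : g ∈ P) (hgW : g ∈ normalizer (W₁ : Set G)) :
    Tr P W₁ (g * s * g⁻¹) := by
  intro w hw
  have h1 := conj_mem (le_normalizer_o2 P hg) (hs _ (conj_mem' hgW hw))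
  have e : w⁻¹ * (g * s * g⁻¹ * w * (g * s * g⁻¹)⁻¹) =
      g * ((g⁻¹ * w * g)⁻¹ * (s * (g⁻¹ * w * g) * s⁻¹)) * g⁻¹ := by group
  rw [e]
  exact h1

variable (q : Sit F S P 1) (h2 : IsPGroup 2 W₁) (hN : W₁ ≤ normalizer (o2 P : Set G))
  (hPW : PL M ≤ normalizer (W₁ : Set G))
include q h2 hN hPW

/-- `|W₁ : W₁ ∩ O₂(P)| ≤ |S : S₀|` -/
theorem relIndex_le (hWP : W₁ ⊓ P ≤ o2 P) : (o2 P).relIndex W₁ ≤ (LS M).relIndex (S : Subgroup G) := by
  have hLW : LS M ≤ normalizer (W₁ : Set G) := inf_le_right.trans hPW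
  have hT : IsPGroup 2 (W₁ ⊔ LS M : Subgroup G) := IsPGroup.to_sup_of_normal_left' h2 LS_isPGroup hLW
  have hTN : W₁ ⊔ LS M ≤ normalizer (o2 P : Set G) :=
    sup_le hN ((LS_le (M := M)).trans (q.h.le.trans (le_normalizer_o2 P)))
  obtain ⟨n, -, hn⟩ := FFThm.exists_conj_le S (q.h.le.trans (le_normalizer_o2 P)) hT hTN
  have h3 : Nat.card (W₁ ⊔ LS M : Subgroup G) ≤ Nat.card (S : Subgroup G) := by
    rw [← card_cj n]
    exact Nat.card_le_card_of_injective _ (inclusion_injective hn)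
  have h4 : W₁ ⊓ LS M = o2 P ⊓ W₁ := by
    apply le_antisymm
    · exact le_inf ((inf_le_inf_left _ ((LS_le (M := M)).trans q.h.le)).trans hWP) inf_le_left
    · exact le_inf inf_le_right (inf_le_left.trans (o2_le_LS q))
  have h5 := Lib.ProductSet.card_mul_card_inf W₁ (LS M)
  rw [← coe_mul_of_right_le_normalizer_left _ _ hLW, h4] at h5
  have h6 : Nat.card ↥(o2 P ⊓ W₁) * (o2 P).relIndex W₁ = Nat.card W₁ := by
    rw [← inf_relIndex_right, relIndex, ← Nat.card_congr (subgroupOfEquivOfLe (inf_le_right : o2 P ⊓ W₁ ≤ W₁)).toEquiv]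
    exact card_mul_index _
  have h7 : Nat.card (LS M) * (LS M).relIndex (S : Subgroup G) = Nat.card (S : Subgroup G) := by
    rw [relIndex, ← Nat.card_congr (subgroupOfEquivOfLe (LS_le (M := M))).toEquiv]
    exact card_mul_index _
  have hp1 : 0 < Nat.card ↥(o2 P ⊓ W₁) := Nat.card_pos
  have hp2 : 0 < Nat.card (LS M) := Nat.card_pos
  have h8 : Nat.card (W₁ ⊔ LS M : Subgroup G) * Nat.card ↥(o2 P ⊓ W₁) = Nat.card W₁ * Nat.card (LS M) := h5
  rw [← h6] at h8
  have h9 : Nat.card ↥(o2 P ⊓ W₁) * Nat.card (LS M) * (o2 P).relIndex W₁ ≤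
      Nat.card ↥(o2 P ⊓ W₁) * Nat.card (LS M) * (LS M).relIndex (S : Subgroup G) := by
    calc Nat.card ↥(o2 P ⊓ W₁) * Nat.card (LS M) * (o2 P).relIndex W₁
        = Nat.card (W₁ ⊔ LS M : Subgroup G) * Nat.card ↥(o2 P ⊓ W₁) := by rw [h8]; ring
      _ ≤ Nat.card (S : Subgroup G) * Nat.card ↥(o2 P ⊓ W₁) := Nat.mul_le_mul_right _ h3
      _ = _ := by rw [← h7]; ring
  exact Nat.le_of_mul_le_mul_left h9 (Nat.mul_pos hp1 hp2)

/-- **`[S₀, W₁] ≤ O₂(P)`** -/
theorem tr_LS (hWP : W₁ ⊓ P ≤ o2 P) {s : G} (hs : s ∈ LS M) : Tr P W₁ s := by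
  by_contra hcon
  have hLW : LS M ≤ normalizer (W₁ : Set G) := inf_le_right.trans hPW
  -- `Tr` is trivial on `S₀`
  have hfaith : ∀ t ∈ LS M, Tr P W₁ t → bet M t = 0 := by
    intro t ht htT
    by_contra hb
    apply hcon
    by_cases hs0 : bet M s = 0
    · exact Tr.of_o2 hN (mem_o2_of_bet q hs hs0)
    obtain ⟨l, hl⟩ := exists_sqrt (bet M s / bet M t)
    have hl0 : l ≠ 0 := by
      rintro rfl
      rw [zero_pow two_ne_zero] at hl
      exact (div_ne_zero hs0 hb) hl.symm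
    obtain ⟨x, hxP, hxN, hx⟩ := tor (M := M) q hl0
    have htP := q.h.le ht.1
    have h4 := IId.Ns.acts_mul M (mul_mem hxP htP) (inv_mem hxP) (IId.Ns.acts_mul M hxP htP hx (bet_LS q ht))
      (IId.Ns.acts_inv M hxP hx)
    rw [show (fun _ : Fin 1 => dg l hl0 * up (bet M t) * (dg l hl0)⁻¹) = fun _ => up (l ^ 2 * bet M t) from
      funext fun _ => by rw [dg_up, mul_inv_cancel_right]] at h4
    have h5 : x * t * x⁻¹ ∈ LS M := conj_mem hxN ht
    have h6 : bet M (x * t * x⁻¹) = bet M s := by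
      rw [bet_eq h4, hl, div_mul_cancel₀ _ hb]
    have h7 := mem_o2_of_bet_eq q h5 hs h6
    have h8 : Tr P W₁ (x * t * x⁻¹) := htT.conj hxP (hPW ⟨hxP, _, hx⟩)
    have h9 := h8.mul (Tr.of_o2 hN h7) (q.h.le h5.1)
    rwa [mul_inv_cancel_left] at h9
  -- the action
  choose sb hsb hbet using bet_surj (M := M) q
  let Ω := ↥W₁ ⧸ (o2 P).subgroupOf W₁
  have hmk : ∀ a b : ↥W₁, (QuotientGroup.mk a : Ω) = QuotientGroup.mk b ↔ (a : G)⁻¹ * b ∈ o2 P := by
    intro a b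
    rw [QuotientGroup.eq, mem_subgroupOf]
    rfl
  let fm : F → ↥W₁ → ↥W₁ := fun b w => ⟨sb b * w * (sb b)⁻¹, conj_mem (hLW (hsb b)) w.2⟩
  let f : F → Ω → Ω := fun b => Quotient.map' (fm b) (by
    intro a a' haa
    rw [QuotientGroup.leftRel_apply, mem_subgroupOf] at haa ⊢
    show (sb b * (a : G) * (sb b)⁻¹)⁻¹ * (sb b * (a' : G) * (sb b)⁻¹) ∈ o2 P
    have h1 := conj_mem (le_normalizer_o2 P (q.h.le (hsb b).1)) haa
    have e : (sb b * (a : G) * (sb b)⁻¹)⁻¹ * (sb b * (a' : G) * (sb b)⁻¹) = sb b * ((a : G)⁻¹ * a') * (sb b)⁻¹ := by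
      group
    rw [e]
    exact h1)
  have hf : ∀ b w, f b (QuotientGroup.mk w) = QuotientGroup.mk (fm b w) := fun b w => rfl
  let act : MulAction (Multiplicative F) Ω :=
    { smul := fun b => f b.toAdd
      one_smul := by
        intro ω
        obtain ⟨w, rfl⟩ := QuotientGroup.mk_surjective ω
        show f 0 _ = _
        rw [hf, eq_comm, hmk]
        exact Tr.of_o2 hN (mem_o2_of_bet q (hsb 0) (hbet 0)) w w.2
      mul_smul := by
        intro a b ω
        obtain ⟨w, rfl⟩ := QuotientGroup.mk_surjective ω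
        show f (a.toAdd + b.toAdd) _ = f a.toAdd (f b.toAdd _)
        rw [hf, hf, hf, hmk]
        set x := a.toAdd
        set y := b.toAdd
        show (sb (x + y) * (w : G) * (sb (x + y))⁻¹)⁻¹ * (sb x * (sb y * (w : G) * (sb y)⁻¹) * (sb x)⁻¹) ∈ o2 P
        have h1 : (sb (x + y))⁻¹ * (sb x * sb y) ∈ o2 P := by
          refine mem_o2_of_bet_eq q (hsb _) (mul_mem (hsb _) (hsb _)) ?_
          rw [bet_mul q (hsb _) (hsb _), hbet, hbet, hbet]
        have h3 := conj_mem (le_normalizer_o2 P (q.h.le (hsb (x + y)).1)) (Tr.of_o2 hN h1 w w.2)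
        have e : (sb (x + y) * (w : G) * (sb (x + y))⁻¹)⁻¹ * (sb x * (sb y * (w : G) * (sb y)⁻¹) * (sb x)⁻¹) =
            sb (x + y) * ((w : G)⁻¹ * ((sb (x + y))⁻¹ * (sb x * sb y) * w * ((sb (x + y))⁻¹ * (sb x * sb y))⁻¹)) *
              (sb (x + y))⁻¹ := by group
        rw [e]
        exact h3 }
  have : Nonempty Ω := ⟨QuotientGroup.mk 1⟩
  have h3 := card_lt_two_pow (E := Multiplicative F) (Ω := Ω) (by
    intro e he
    have h4 : Tr P W₁ (sb e.toAdd) := by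
      intro w hw
      have h5 : f e.toAdd (QuotientGroup.mk ⟨w, hw⟩) = QuotientGroup.mk ⟨w, hw⟩ := he _
      rw [hf, eq_comm, hmk] at h5
      exact h5
    have h5 := hfaith _ (hsb _) h4
    rw [hbet] at h5
    exact congrArg Multiplicative.ofAdd h5)
  have h4 : Nat.card Ω = (o2 P).relIndex W₁ := rfl
  have h5 : Nat.card (Multiplicative F) = Nat.card F := Nat.card_congr Multiplicative.toAdd
  have h6 := relIndex_le q h2 hN hPW hWP
  have h7 : SL M = LS M := by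
    ext s
    constructor
    · rintro ⟨hsS, b, hb⟩
      exact mem_LS q.h.le hsS hb.2
    · intro hs
      exact ⟨hs.1, bet M s, Al_iff.2 ⟨q.h.le hs.1, bet_LS q hs⟩⟩
  have h8 := two_pow_relIndex_SL_le q.hG S q.h M
  rw [h7] at h8
  rw [h4, h5] at h3
  exact absurd (h3.trans_le (Nat.pow_le_pow_right (by norm_num) h6)) (not_lt.2 h8)

/-- all lifts -/
theorem exists_tr (hWP : W₁ ⊓ P ≤ o2 P) (B : Matrix.SpecialLinearGroup (Fin 2) F) :
    ∃ x, Al M 0 x B ∧ Tr P W₁ x := by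
  have hup : ∀ c : F, ∃ x, Al M 0 x (up c) ∧ Tr P W₁ x := by
    intro c
    obtain ⟨t, ht, htc⟩ := M.unip fun _ => c
    exact ⟨t, Al_iff.2 ⟨q.h.le ht, htc⟩, tr_LS q h2 hN hPW hWP (mem_LS q.h.le ht htc)⟩
  have hlo : ∀ c : F, ∃ x, Al M 0 x (lo c) ∧ Tr P W₁ x := by
    intro c
    obtain ⟨x, hx, hxT⟩ := hup (-c)
    obtain ⟨n, hn⟩ := exists_Al M 0 (wm (1 : F) one_ne_zero)
    refine ⟨n * x * n⁻¹, ((hn.mul hx).mul hn.inv).of_eq ?_, hxT.conj hn.1 (hPW ⟨hn.1, _, hn.2⟩)⟩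
    rw [wm_up, mul_inv_cancel_right]
    congr 1
    ring
  have hmul : ∀ A C : Matrix.SpecialLinearGroup (Fin 2) F, (∃ x, Al M 0 x A ∧ Tr P W₁ x) →
      (∃ x, Al M 0 x C ∧ Tr P W₁ x) → ∃ x, Al M 0 x (A * C) ∧ Tr P W₁ x := by
    rintro A C ⟨x, hx, hxT⟩ ⟨y, hy, hyT⟩
    exact ⟨x * y, hx.mul hy, hxT.mul hyT hx.1⟩
  obtain ⟨a, b, c, d, rfl⟩ := exists_up_lo B
  exact hmul _ _ (hmul _ _ (hmul _ _ (hup a) (hlo b)) (hup c)) (hlo d)

/-- **`W₁ ≤ O₂(P)`** -/
theorem le_o2_one (hWP : W₁ ⊓ P ≤ o2 P) : W₁ ≤ o2 P := by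
  have hcent : W₁ ≤ centralizer (Nc M 0 : Set G) := by
    intro w hw
    obtain ⟨n, hn⟩ := h2 ⟨w, hw⟩
    refine cent_Nc_of_comm q (hN hw) (n := n) (congrArg Subtype.val hn) fun B => ?_
    obtain ⟨x, hx, hxT⟩ := exists_tr q h2 hN hPW hWP B
    refine ⟨x, hx, ?_⟩
    have h3 := conj_mem (hN hw) (hxT w hw)
    have e : w * (w⁻¹ * (x * w * x⁻¹)) * w⁻¹ = x * w * x⁻¹ * w⁻¹ := by group
    rwa [e] at h3
  have hNV : Nc M 0 ≤ zl (S : Subgroup G) P := Nc_le_zl 0
  have hQc : o2 P ≤ centralizer (Nc M 0 : Set G) := by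
    have h3 : o2 P ≤ centralizer (zl (S : Subgroup G) P : Set G) := by
      rw [← q.h.inf_centralizer S q.hG]
      exact inf_le_right
    exact h3.trans (centralizer_le hNV)
  have hSN : (S : Subgroup G) ≤ normalizer (Nc M 0 : Set G) :=
    le_normalizer_of fun s hs n hn => Nc_norm (q.h.le hs) (Mv0 q (q.h.le hs)) hn
  have hSc : (S : Subgroup G) ⊓ centralizer (Nc M 0 : Set G) ≤ o2 P := by
    rintro s ⟨hs, hsc⟩
    have hsP := q.h.le hs
    have h3 : s ∈ kern M := by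
      refine ⟨hsP, fun v hv => ?_⟩
      obtain ⟨n, hn, he⟩ := Sd.Nc_surj M 0 (M.e v 0)
      have hnV := hNV hn
      have h4 : M.e v = M.e n := e_ext he.symm
      rw [e_conj_congr M hsP hv hnV h4, ← mem_centralizer_iff.1 hsc n hn, mul_inv_cancel_right, h4]
    have h4 := comm_of_quot q.hG S q.h M q.hk hs h3
    rw [← q.h.inf_centralizer S q.hG]
    exact mem_inf.2 ⟨hs, mem_centralizer_iff.2 fun v hv => (h4 v hv).symm⟩
  have hK : IsPGroup 2 (o2 P ⊔ W₁ : Subgroup G) := IsPGroup.to_sup_of_normal_left' (o2_isPGroup P) h2 hN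
  have hKc : o2 P ⊔ W₁ ≤ centralizer (Nc M 0 : Set G) := sup_le hQc hcent
  obtain ⟨n, hn, hnS⟩ := FFThm.exists_conj_le S hSN hK (hKc.trans (centralizer_le_normalizer _))
  have h3 : cj n (o2 P ⊔ W₁) ≤ o2 P := by
    refine le_trans (le_inf hnS ?_) hSc
    rintro _ ⟨k, hk, rfl⟩
    exact conj_cent hn (hKc hk)
  have h4 : o2 P = o2 P ⊔ W₁ := by
    refine eq_of_le_of_card_ge le_sup_left ?_
    rw [← card_cj n (o2 P ⊔ W₁)]
    exact Nat.card_le_card_of_injective _ (inclusion_injective h3)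
  rw [h4]
  exact le_sup_right

end one

/-! ### The theorem -/

section main

variable (q : Sit F S P 1)
include q

/-- **A 2-subgroup of `G` normalised by `PL M` is contained in `O₂(P)`.** -/
theorem le_o2_of_norm {W : Subgroup G} (h2 : IsPGroup 2 W) (hPW : PL M ≤ normalizer (W : Set G)) : W ≤ o2 P := by
  -- `W₁`
  set W₁ : Subgroup G := W ⊓ normalizer (o2 P : Set G) with hW₁
  have hPL : PL M ≤ normalizer (normalizer (o2 P : Set G) : Set G) :=
    PL_le.trans ((le_normalizer_o2 P).trans le_normalizer)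
  have hPW₁ : PL M ≤ normalizer (W₁ : Set G) := by
    refine le_normalizer_of fun g hg w hw => mem_inf.2 ⟨conj_mem (hPW hg) hw.1, conj_mem (hPL hg) hw.2⟩
  have hWP : W ⊓ P ≤ o2 P := by
    refine inf_le_o2 (M := M) q (h2.to_le inf_le_left) inf_le_right ?_
    exact le_normalizer_of fun g hg w hw => mem_inf.2
      ⟨conj_mem (hPW hg) hw.1, mul_mem (mul_mem (PL_le hg) hw.2) (inv_mem (PL_le hg))⟩
  have h1 : W₁ ≤ o2 P := le_o2_one (M := M) q (h2.to_le inf_le_left) inf_le_right hPW₁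
    ((inf_le_inf_right _ inf_le_left).trans hWP)
  -- growth of normalisers
  by_contra hcon
  have hQW : o2 P ≤ normalizer (W : Set G) := (o2_le_LS (M := M) q).trans (inf_le_right.trans hPW)
  have hT : IsPGroup 2 (W ⊔ o2 P : Subgroup G) := IsPGroup.to_sup_of_normal_left' h2 (o2_isPGroup P) hQW
  have hlt : o2 P < W ⊔ o2 P := by
    refine lt_of_le_of_ne le_sup_right fun h => hcon ?_
    rw [h]
    exact le_sup_left
  obtain ⟨t, ⟨htT, htN⟩, htQ⟩ := SetLike.exists_of_lt (Lib.GoldschmidtFusion.lt_inf_normalizer hT hlt)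
  have h3 : t ∈ ((W ⊔ o2 P : Subgroup G) : Set G) := htT
  rw [coe_mul_of_right_le_normalizer_left _ _ hQW] at h3
  obtain ⟨w, hw, z, hz, rfl⟩ := h3
  have h4 : w ∈ W₁ := by
    refine mem_inf.2 ⟨hw, ?_⟩
    have h5 : z⁻¹ ∈ normalizer (o2 P : Set G) := inv_mem (le_normalizer hz)
    have h6 := mul_mem htN h5
    rwa [mul_inv_cancel_right] at h6
  exact htQ (mul_mem (h1 h4) hz)

/-- `PL M` centralises `D` -/
theorem PL_cent : PL M ≤ centralizer (cv (S : Subgroup G) P : Set G) := by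
  rintro g ⟨hg, A, hA⟩
  exact mem_centralizer_iff.2 fun d hd => (hA.2 d hd).symm

/-- **(GD)** for a subgroup normalised by `PL M`, `V` and of characteristic 2 -/
theorem gd_of {C : Subgroup G} (hPC : PL M ≤ normalizer (C : Set G)) (hVC : zl (S : Subgroup G) P ≤ C)
    (hC : C ⊓ centralizer (o2 C : Set G) ≤ o2 C) :
    o2 C ≤ o2 P ∧ zl (S : Subgroup G) P ≤ o2 C ∧ zl (S : Subgroup G) P ≤ centralizer (o2 C : Set G) := by
  have h1 : o2 C ≤ o2 P := le_o2_of_norm (M := M) q (o2_isPGroup C)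
    (hPC.trans (normalizer_le_normalizer_o2 C))
  have h2 : zl (S : Subgroup G) P ≤ centralizer (o2 C : Set G) := by
    intro v hv
    rw [mem_centralizer_iff]
    intro w hw
    exact (mem_zc.1 (zl_le_A q.hG S q.h hv)).2.1 w (h1 hw)
  exact ⟨h1, (le_inf hVC h2).trans hC, h2⟩

/-- **(GD)** -/
theorem gd (M : NatK F (S : Subgroup G) P (zl (S : Subgroup G) P) (cv (S : Subgroup G) P) 1) {x : G} (hx : x ∈ cv (S : Subgroup G) P) (hx1 : x ≠ 1) :
    o2 (centralizer ({x} : Set G)) ≤ o2 P ∧ zl (S : Subgroup G) P ≤ o2 (centralizer ({x} : Set G)) ∧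
      zl (S : Subgroup G) P ≤ centralizer (o2 (centralizer ({x} : Set G)) : Set G) := by
  have hxV := cv_le _ _ hx
  have hx2 : x ^ 2 = 1 := by rw [pow_two]; exact sqV' q hxV
  refine gd_of (M := M) q (le_trans ?_ le_normalizer) ?_ (MinSimple.Basic.char2_centralizer q.hG hx2 hx1)
  · intro g hg
    rw [mem_centralizer_singleton_iff]
    exact (mem_centralizer_iff.1 (PL_cent (M := M) q hg) x hx).symm
  · intro v hv
    rw [mem_centralizer_singleton_iff]
    exact IId.ThmCQ.Nsp.V_comm q hv hxV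

end main

end Cfsg.Agent.Omega.NOThreeL.RF.GD

end

section


/-!
# NO-3L, `R ∩ (A)`, one natural factor, field automorphisms (#21360 (0)): `D ∩ I = 1`, `|T| ≥ 4`

`D : HypM S P H` (the minimal pair; no coordinates).

* `HypM.comm_pair` : `z ∈ Z - F_H`, `t ∈ C_H(z)` ⟹ `[V, V^t] = 1`;
* **`HypM.inf_Rr`** : an `S`-invariant subgroup of `C_V(O²(P))` meets `I = C_U(N)` trivially (stated for every `S`-invariant
  `B ≤ V` with `C_B(S) ≤ C(P)`);
* **`HypM.not_two`** : if `|U : C_U(V)| = 2` then `[u, V]` has order at most `2` (for every `u ∈ U`).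
-/

set_option autoImplicit false
set_option linter.unusedSectionVars false

namespace Cfsg.Agent.Omega.NOThreeL.RF

open Subgroup Cfsg Cfsg.Agent.Omega.MinPar
open Cfsg.Agent.ZN (zc zl o2)
open Cfsg.Agent.Omega.Frame Cfsg.Agent.Omega.FrameNOFF
open Cfsg.Agent.Omega.Node.NO3L Cfsg.Agent.Omega.NOThreeL.Basic
open Cfsg.Agent.Omega.NoFF.Basic (conj_conj mem_conj conj_le_iff conj_le_centralizer comm_symm comm_mono)
open Cfsg.Agent.Omega.NOThreeL.Pair (conj_eq_of_mem conj_le_normalizer zl_abel)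
open Cfsg.Agent.MinSimple.VModule (zl_le zc_le_zl le_normalizer_zl zc_le o2_isPGroup le_normalizer_o2 le_o2
  normalizer_le_normalizer_zc mem_zc)
open Cfsg.Agent.Omega.NOThreeL (mem_normalizer_of_conj_eq le_normalizer_of mem_sup_of_comm)
open Cfsg.Agent.Omega.NOThreeL.RTools (cm cm_def cm_mul NN conj_mem_of_mem conj_le_NN le_NN NN_le le_normalizer_NN
  le_sup_inf isLong)
open Cfsg.Agent.Omega.NOThreeL.RA (Fc Yy Rr le_o2_of_pairs)
open Cfsg.Agent.Omega.NOThreeL.RSplit (Nrm)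
open Cfsg.Agent.Omega.NOThreeL.ThmAx (IsAx TT YY mem_smul IsAx.smul)
open Cfsg.Agent.Omega.NOThreeL.RSplit.TransRt (Axs)
open Cfsg.Agent.Omega.NOThreeL.RBig (Trans.Sit)
open scoped Pointwise

universe u

variable {G : Type u} [Group G]

namespace HypM

variable [Finite G] {S : Sylow 2 G} {P H : Subgroup G} (D : HypM S P H)
include D

/-! ### `[V, V^t] = 1` -/

/-- `z ∈ Z - F_H`, `t ∈ C_H(z)` ⟹ `[V^t, V] = 1` -/
theorem comm_pair {z t : G} (hz : z ∈ zc (S : Subgroup G)) (hzF : z ∉ Fc (S : Subgroup G) H) (ht : t ∈ H)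
    (htz : t * z = z * t) :
    MulAut.conj t • zl (S : Subgroup G) P ≤ centralizer (zl (S : Subgroup G) P : Set G) := by
  have h1 := D.min_o2 (h := 1) (x := z) (one_mem _) (by rwa [map_one, one_smul]) hzF
  rw [map_one, one_smul] at h1
  have hz1 : z ≠ 1 := fun h => hzF (h ▸ one_mem _)
  have hl0 := isLong S hz hz1
  have hl : IsLong (S : Subgroup G) (H ⊓ centralizer ({z} : Set G)) :=
    ⟨hl0.loc.of_le S (le_inf D.SH hl0.loc.le) inf_le_right, le_inf D.CH hl0.cz⟩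
  have hoS : o2 (H ⊓ centralizer ({z} : Set G)) ≤ (S : Subgroup G) := hl.loc.o2_le S
  have htc : t ∈ H ⊓ centralizer ({z} : Set G) := mem_inf.2 ⟨ht, mem_centralizer_singleton_iff.2 htz⟩
  have hVt : MulAut.conj t • zl (S : Subgroup G) P ≤ o2 (H ⊓ centralizer ({z} : Set G)) := by
    have h2 := (conj_le_iff (g := t)).2 h1
    rwa [conj_eq_of_mem (le_normalizer_o2 _ htc)] at h2
  have D' := GeoLow.geo D.hc (⟨D.data.noff, D.data.low⟩ : DataLow (S : Subgroup G))
  have h2 := D'.noff' D.par D.par (g := t) (h := 1)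
    (by
      rw [map_one, one_smul]
      exact (hVt.trans hoS).trans D.SP)
    (by
      rw [map_one, one_smul]
      have h3 : zl (S : Subgroup G) P ≤ MulAut.conj t • o2 (H ⊓ centralizer ({z} : Set G)) := by
        rw [conj_eq_of_mem (le_normalizer_o2 _ htc)]
        exact h1
      exact h3.trans (conj_le_iff.2 (hoS.trans D.SP)))
  rw [map_one, one_smul] at h2
  exact h2

/-! ### `D ∩ I = 1` -/

/-- **`D ∩ I = 1`**: an `S`-invariant `B ≤ V` with `C_B(S) ≤ C(P)` meets `I = C_U(N)` trivially. -/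
theorem inf_Rr {B : Subgroup G} (hBV : B ≤ zl (S : Subgroup G) P) (hSB : (S : Subgroup G) ≤ normalizer (B : Set G))
    (hB : B ⊓ zc (S : Subgroup G) ≤ centralizer (P : Set G)) : B ⊓ Rr (S : Subgroup G) P H = ⊥ := by
  by_contra hne
  have hS : (S : Subgroup G) ≤ normalizer ((B ⊓ Rr (S : Subgroup G) P H : Subgroup G) : Set G) := by
    intro s hs
    have h1 := hSB hs
    have h2 := D.HR (D.SH hs)
    rw [mem_normalizer_iff] at h1 h2 ⊢
    intro x
    rw [mem_inf, mem_inf, h1 x, h2 x]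
  obtain ⟨x, hx, hx1, hxS⟩ := NoFF.LinesPlug.exists_fixed S.isPGroup' ((inf_le_left.trans hBV).trans D.VS) hS hne
  obtain ⟨hxB, hxR⟩ := mem_inf.1 hx
  have hxz : x ∈ zc (S : Subgroup G) := mem_zc.2 ⟨D.VS (hBV hxB), fun s hs => hxS s hs, by
    rw [pow_two, D.sqV (hBV hxB)]⟩
  exact hx1 (D.not_cent hxz (hB (mem_inf.2 ⟨hxB, hxz⟩)) (mem_inf.1 hxR).2)

/-! ### The module `U` -/

theorem nrm : Nrm H (zl (S : Subgroup G) H) := ⟨fun _ hu _ hv => D.commU hu hv, le_normalizer_zl _ _⟩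

theorem cm_memV {u v : G} (hu : u ∈ zl (S : Subgroup G) H) (hv : v ∈ zl (S : Subgroup G) P) :
    cm v u ∈ zl (S : Subgroup G) P := by
  have e1 : cm v u = v * (u * v⁻¹ * u⁻¹) := by rw [cm_def]; group
  rw [e1]
  exact mul_mem hv (conj_mem_of_mem (D.PV (D.SP (D.US hu))) (inv_mem hv))

theorem cm_memU {u v : G} (hu : u ∈ zl (S : Subgroup G) H) (hv : v ∈ zl (S : Subgroup G) P) :
    cm v u ∈ zl (S : Subgroup G) H := by
  have e1 : cm v u = (v * u * v⁻¹) * u⁻¹ := by rw [cm_def]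
  rw [e1]
  exact mul_mem (conj_mem_of_mem (D.HU (D.VH hv)) hu) (inv_mem hu)

theorem cm_mulV {u v w : G} (hu : u ∈ zl (S : Subgroup G) H) (hv : v ∈ zl (S : Subgroup G) P)
    (hw : w ∈ zl (S : Subgroup G) P) : cm (v * w) u = cm v u * cm w u := by
  have e1 : cm (v * w) u = (v * cm w u * v⁻¹) * cm v u := by simp only [cm_def]; group
  rw [e1, D.commV hv (D.cm_memV hu hw), mul_inv_cancel_right, D.commV (D.cm_memV hu hw) (D.cm_memV hu hv)]

/-- `[V, u₀]` as a subgroup of the module -/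
def RH {u₀ : G} (hu₀ : u₀ ∈ zl (S : Subgroup G) H) : AddSubgroup D.nrm.Mod where
  carrier := {m | ∃ v ∈ zl (S : Subgroup G) P, D.nrm.val m = cm v u₀}
  zero_mem' := ⟨1, one_mem _, by rw [Nrm.val_zero, cm_def]; group⟩
  add_mem' := by
    rintro a b ⟨v, hv, h1⟩ ⟨w, hw, h2⟩
    exact ⟨v * w, mul_mem hv hw, by rw [Nrm.val_add, h1, h2, D.cm_mulV hu₀ hv hw]⟩
  neg_mem' := by
    rintro a ⟨v, hv, h1⟩
    refine ⟨v, hv, ?_⟩
    rw [Nrm.val_neg, h1]
    exact inv_eq_of_mul_eq_one_left (D.sqV (D.cm_memV hu₀ hv))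

/-- the root group of the action -/
abbrev TH (_ : HypM S P H) : Unit → Subgroup H := fun _ => (zl (S : Subgroup G) P).subgroupOf H

/-- its axis -/
abbrev AxH : Unit → AddSubgroup D.nrm.Mod := fun _ => D.nrm.ad (centralizer (zl (S : Subgroup G) P : Set G))

/-- `N` acts on `U` as the abstract group `NN` -/
theorem exists_NN {x : G} (hx : x ∈ NN (S : Subgroup G) P H) :
    ∃ hxH : x ∈ H, (⟨x, hxH⟩ : H) ∈ RBig.Trans.NN (Axs H D.AxH) (TT D.TH D.AxH) := by
  have h1 : NN (S : Subgroup G) P H ≤ (RBig.Trans.NN (Axs H D.AxH) (TT D.TH D.AxH)).map H.subtype := by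
    refine NN_le fun y hy v hv => ?_
    rw [mem_conj] at hv
    refine ⟨⟨y, hy⟩ * ⟨y⁻¹ * v * y, D.VH hv⟩ * ⟨y, hy⟩⁻¹, ?_, ?_⟩
    · exact RSplit.TransRt.conj_mem_NN (T := D.TH) (Ax := D.AxH) (i := ()) (mem_subgroupOf.2 hv)
    · change y * (y⁻¹ * v * y) * y⁻¹ = v
      group
  obtain ⟨⟨x', hx'⟩, hxK, rfl⟩ := h1 hx
  exact ⟨hx', hxK⟩

/-- `|U : C_U(V)| = 2` (at most). -/
def Two (_ : HypM S P H) : Prop :=
  ∀ u ∈ zl (S : Subgroup G) H, ∀ u' ∈ zl (S : Subgroup G) H, u ∉ centralizer (zl (S : Subgroup G) P : Set G) →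
    u' ∉ centralizer (zl (S : Subgroup G) P : Set G) → u * u' ∈ centralizer (zl (S : Subgroup G) P : Set G)

/-- all elements outside `C_U(V)` have the same commutators with `V` -/
theorem cm_eq (h2 : D.Two) {u₀ u v : G} (hu₀ : u₀ ∈ zl (S : Subgroup G) H)
    (hc : u₀ ∉ centralizer (zl (S : Subgroup G) P : Set G)) (hu : u ∈ zl (S : Subgroup G) H)
    (huc : u ∉ centralizer (zl (S : Subgroup G) P : Set G)) (hv : v ∈ zl (S : Subgroup G) P) : cm v u = cm v u₀ := by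
  have h3 := mem_centralizer_iff.1 (h2 u₀ hu₀ u hu hc huc) v hv
  have e : u = u₀ * (u₀ * u) := by rw [← mul_assoc, D.sqU hu₀, one_mul]
  conv_lhs => rw [e]
  calc cm v (u₀ * (u₀ * u)) = v * u₀ * ((u₀ * u) * v⁻¹) * (u₀ * u)⁻¹ * u₀⁻¹ := by rw [cm_def]; group
    _ = v * u₀ * (v⁻¹ * (u₀ * u)) * (u₀ * u)⁻¹ * u₀⁻¹ := by
        have h4 : (u₀ * u) * v⁻¹ = v⁻¹ * (u₀ * u) := by
          rw [mul_inv_eq_iff_eq_mul, mul_assoc, ← h3, inv_mul_cancel_left]
        rw [h4]
    _ = cm v u₀ := by rw [cm_def]; group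

/-- **Root groups**, for `|U : C_U(V)| = 2`. -/
theorem rt (h2 : D.Two) {u₀ : G} (hu₀ : u₀ ∈ zl (S : Subgroup G) H)
    (hc : u₀ ∉ centralizer (zl (S : Subgroup G) P : Set G)) :
    RSplit.Root.Rt D.TH D.AxH (fun _ => D.RH hu₀) where
  char2 m := Nrm.ext (D.sqU (Nrm.val_mem _ m))
  fix i t ht u hu := by
    refine Nrm.ext ?_
    have h1 := mem_centralizer_iff.1 (Nrm.mem_ad.1 hu) t (mem_subgroupOf.1 ht)
    rw [Nrm.val_smul, h1, mul_inv_cancel_right]
  quad i t ht u := by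
    have htV : (t : G) ∈ zl (S : Subgroup G) P := mem_subgroupOf.1 ht
    by_cases hu : D.nrm.val u ∈ centralizer (zl (S : Subgroup G) P : Set G)
    · have h1 := mem_centralizer_iff.1 hu t htV
      have h3 : t • u - u = 0 := by
        refine Nrm.eq_zero_iff.2 ?_
        rw [Nrm.val_sub, Nrm.val_smul, h1, mul_inv_cancel_right, mul_inv_cancel]
      rw [h3]
      exact zero_mem _
    · refine ⟨t, htV, ?_⟩
      rw [Nrm.val_sub, Nrm.val_smul, ← D.cm_eq h2 hu₀ hc (Nrm.val_mem _ u) hu htV, cm_def]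
  full i u hu r hr := by
    obtain ⟨v, hv, he⟩ := hr
    refine ⟨⟨v, D.VH hv⟩, mem_subgroupOf.2 hv, Nrm.ext ?_⟩
    rw [Nrm.val_smul, Nrm.val_add, he, ← D.cm_eq h2 hu₀ hc (Nrm.val_mem _ u) hu hv,
      D.commU (Nrm.val_mem _ u) (D.cm_memU (Nrm.val_mem _ u) hv), cm_def]
    group
  le i j := by
    rintro m ⟨v, hv, he⟩
    rw [Nrm.mem_ad, he, mem_centralizer_iff]
    exact fun w hw => D.commV hw (D.cm_memV hu₀ hv)
  trans i j := ⟨1, one_smul _ _⟩

/-- some `z ∈ Z` is not fixed by `N` -/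
theorem exists_z : ∃ z, ∃ hz : z ∈ zc (S : Subgroup G), ∃ x : H, D.nrm.of z (zc_le_zl _ _ hz) ∉ x • D.AxH () := by
  by_contra hcon
  push Not at hcon
  apply D.ne
  rw [le_centralizer_iff]
  refine NoFF.Basic.V_le (Z := zc (S : Subgroup G)) fun k hk y hy => ?_
  rw [mem_conj] at hy
  have h1 := hcon _ hy ⟨k, hk⟩⁻¹
  rw [Nrm.smul_ad, Nrm.mem_ad, Nrm.val_of, mem_conj] at h1
  have e : ((⟨k, hk⟩⁻¹ : H) : G)⁻¹ * (k⁻¹ * y * k) * ((⟨k, hk⟩⁻¹ : H) : G) = y := by
    change (k⁻¹)⁻¹ * (k⁻¹ * y * k) * k⁻¹ = y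
    group
  rwa [e] at h1

/-- **`|U : C_U(V)| = 2` implies `|[V, u]| ≤ 2`** (#21360 (0)). -/
theorem not_two (h2 : D.Two) {u v w : G} (hu : u ∈ zl (S : Subgroup G) H) (hv : v ∈ zl (S : Subgroup G) P)
    (hw : w ∈ zl (S : Subgroup G) P) (h1 : cm v u ≠ 1) (h3 : cm w u ≠ 1) (h4 : cm v u ≠ cm w u) : False := by
  have hc : u ∉ centralizer (zl (S : Subgroup G) P : Set G) := fun hc =>
    h1 (cm_eq_one.2 (mem_centralizer_iff.1 hc v hv))
  have R := D.rt h2 hu hc
  set r : D.nrm.Mod := D.nrm.of (cm v u) (D.cm_memU hu hv) with hr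
  set s : D.nrm.Mod := D.nrm.of (cm w u) (D.cm_memU hu hw) with hs
  have hrR : r ∈ D.RH hu := ⟨v, hv, rfl⟩
  have hsR : s ∈ D.RH hu := ⟨w, hw, rfl⟩
  have hr0 : r ≠ 0 := fun h => h1 (Nrm.eq_zero_iff.1 h)
  have hs0 : s ≠ 0 := fun h => h3 (Nrm.eq_zero_iff.1 h)
  have hrs : r ≠ s := fun h => h4 (Nrm.ext_iff.1 h)
  have big : ∀ i : Unit, 2 < Nat.card (D.RH hu) := fun _ => by
    have h5 : ({0, r, s} : Set D.nrm.Mod).ncard = 3 := by
      rw [Set.ncard_eq_three]
      exact ⟨0, r, s, hr0.symm, hs0.symm, hrs, rfl⟩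
    have h6 : ({0, r, s} : Set D.nrm.Mod) ⊆ (D.RH hu : Set D.nrm.Mod) := by
      rintro m (rfl | rfl | rfl)
      · exact zero_mem _
      · exact hrR
      · exact hsR
    have h7 := Set.ncard_le_ncard h6 (Set.toFinite _)
    rw [h5] at h7
    have h8 : Nat.card (D.RH hu) = (D.RH hu : Set D.nrm.Mod).ncard := Nat.card_coe_set_eq _
    omega
  obtain ⟨z, hz, x₀, hx₀⟩ := D.exists_z
  have hzF : z ∉ Fc (S : Subgroup G) H := by
    intro hzF
    apply hx₀
    rw [Nrm.smul_ad, Nrm.mem_ad, Nrm.val_of, mem_conj]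
    have h5 := Fc_conj hzF (inv_mem x₀.2)
    rw [inv_inv] at h5
    rw [h5, mem_centralizer_iff]
    exact fun y hy => D.commV hy (D.ZV hz)
  have Q : Trans.Sit (Axs H D.AxH) (TT D.TH D.AxH) (YY H D.AxH (fun _ => D.RH hu)) (D.nrm.of z (zc_le_zl _ _ hz)) := by
    refine RSplit.TransRt.sit R big ?_ ?_ ⟨x₀, (), hx₀⟩
    · refine ⟨S.subtype D.long.loc.le, fun s hs => Nrm.ext ?_⟩
      rw [Nrm.val_smul, Nrm.val_of]
      have h5 : (s : G) ∈ (S : Subgroup G) := hs
      rw [(mem_zc.1 hz).2.1 _ h5, mul_inv_cancel_right]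
    · rintro ⟨x, hx⟩
      obtain ⟨n, hn, c, hcc, rfl⟩ := D.exists_nc hx
      obtain ⟨hnH, hn'⟩ := D.exists_NN hn
      refine ⟨_, hn', Nrm.ext ?_⟩
      rw [Nrm.val_smul, Nrm.val_of]
      change n⁻¹ * (n * c) * z * (n⁻¹ * (n * c))⁻¹ = z
      rw [inv_mul_cancel_left, ← mem_centralizer_iff.1 hcc z hz, mul_inv_cancel_right]
  have hA : D.AxH () ∈ Axs H D.AxH := ⟨1, (), one_smul _ _⟩
  refine TwoT.two_false Q hA (W := D.RH hu) ?_ ?_ ?_ hrR hsR hr0 hs0 hrs
  · exact (RSplit.Root.Rt.R_le_YY (H := H) (Ax := D.AxH) (R := fun _ => D.RH hu) ()).trans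
      (RBig.Trans.AxSys.YY_le_UC (RBig.Trans.AxSys.self_mem hA))
  · -- `z ∈ g` implies `[V, u] ≤ g`
    intro g hg hzg
    have hgA := Q.mem_A hg
    by_contra hcon
    obtain ⟨m, hm, hmg⟩ := SetLike.not_le_iff_exists.1 hcon
    have h5 : YY H D.AxH (fun _ => D.RH hu) g ≤ D.AxH () := by
      intro y hy
      obtain ⟨t, ht, hty⟩ := R.TT_full hmg hy
      have htz := Nrm.ext_iff.1 (R.TT_fix ht hzg)
      rw [Nrm.val_smul, Nrm.val_of] at htz
      have h6 := D.comm_pair hz hzF t.2 (mul_inv_eq_iff_eq_mul.1 htz)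
      obtain ⟨v', hv', he⟩ := hm
      have h7 : D.nrm.val y = (t * cm v' u * (t : G)⁻¹) * (cm v' u)⁻¹ := by
        have h8 := Nrm.ext_iff.1 hty
        rw [Nrm.val_smul, Nrm.val_add, he] at h8
        rw [h8, D.commU (D.cm_memU hu hv') (Nrm.val_mem _ y), mul_inv_cancel_right]
      rw [Nrm.mem_ad, h7]
      refine mul_mem (h6 ?_) (inv_mem ?_)
      · rw [mem_conj]
        have e : (t : G)⁻¹ * (t * cm v' u * (t : G)⁻¹) * t = cm v' u := by group
        rw [e]
        exact D.cm_memV hu hv'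
      · rw [mem_centralizer_iff]
        exact fun y hy => D.commV hy (D.cm_memV hu hv')
    have h6 : YY H D.AxH (fun _ => D.RH hu) (D.AxH ()) ≤ g := by
      by_contra h6
      exact Q.symm _ hA _ hgA h6 h5
    exact hmg (h6 (RSplit.Root.Rt.R_le_YY (H := H) (Ax := D.AxH) (R := fun _ => D.RH hu) () hm))
  · -- the axes have index `2`
    rintro _ ⟨x, i, rfl⟩ a b ha hb
    rw [mem_smul] at ha hb ⊢
    rw [smul_add, Nrm.mem_ad, Nrm.val_add]
    exact h2 _ (Nrm.val_mem _ _) _ (Nrm.val_mem _ _) ha hb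

end HypM

end Cfsg.Agent.Omega.NOThreeL.RF

end

end

-- merged: Cfsg.Agent.Mrg.Omega.NOThreeL.RF.ZpU
section

/-!
# NO-3L, `R ∩ (A)`, `k = 1`, fields (#21360 (0)): `|T| ≥ 4`, `[U, V] = R D₁`, `Z⁺ ≤ U`

`D : HypM S P H` (minimal pair), `M : NatK F S P V D 1`, `4 ≤ |F|` (`q : Sit F S P 1`), `g` as in `IsG M g`.

* `HypM.U_le_LS` : `U ≤ S₀`;
* `HypM.D_inf_R` : `D ∩ I = 1` (`D = C_V(O²(P))`, `I = C_U(N)`);
* **`HypM.exists_two`** (`|T| ≥ 4`) : there are `u, u' ∈ U` with `0 ≠ β(u) ≠ β(u') ≠ 0`;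
* **`HypM.cm_gen`** (`[U, V] = R g(F)`) : a subgroup containing all `[v, u]` contains `R` and `g(F)`;
* **`HypM.Zp_le_U`** : `Z⁺ ≤ U`.
-/

set_option autoImplicit false
set_option linter.unusedSectionVars false
set_option linter.unusedVariables false

namespace Cfsg.Agent.Omega.NOThreeL.RF

open Subgroup Cfsg Cfsg.Agent.Omega.MinPar
open Cfsg.Agent.ZN (zc zl o2)
open Cfsg.Agent.Omega.Frame Cfsg.Agent.Omega.FrameNOFF
open Cfsg.Agent.Omega.Node.NO3L Cfsg.Agent.Omega.NOThreeL.Basic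
open Cfsg.Agent.Omega.NoFF.Basic (conj_conj mem_conj conj_le_iff conj_le_centralizer comm_symm comm_mono)
open Cfsg.Agent.MinSimple.VModule (zl_le zc_le_zl le_normalizer_zl zc_le o2_isPGroup le_normalizer_o2 le_o2
  normalizer_le_normalizer_zc mem_zc)
open Cfsg.Agent.Omega.NOThreeL (mem_normalizer_of_conj_eq le_normalizer_of mem_sup_of_comm)
open Cfsg.Agent.Omega.NOThreeL.RTools (cm cm_def conj_mem_of_mem)
open Cfsg.Agent.Omega.NOThreeL.AOne (Act)
open Cfsg.Agent.Omega.NOThreeL.RFour (mem_centralizer_of_act co)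
open Cfsg.Agent.Omega.NOThreeL.RA (Fc Yy Rr)
open Cfsg.Agent.Omega.FFThm (NatK ActsSL)
open Cfsg.Agent.Omega.FrameFF (cv)
open Cfsg.Agent.Omega.HOne (cv_le conj_mem_zl conj_mem_cv)
open Cfsg.Agent.Omega.IId.Ns (Al Mv one1 one1_same one1_ne exists_omega)
open Cfsg.Agent.Omega.IId.ThmCQ.Nsp
open Cfsg.Agent.Lib.SL2Mat
open Cfsg.Agent.Omega.NatPair (ap ap_mul ap_one ap_inv_ap)
open scoped Pointwise

universe u

variable {G : Type u} [Group G] [Finite G] {F : Type} [Field F] [Finite F] [CharP F 2] {S : Sylow 2 G} {P H : Subgroup G}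

/-- An element of `S` acting as `up b` on `V / D` lies in `S₀`. -/
theorem mem_LS_of_up {M : NatK F (S : Subgroup G) P (zl (S : Subgroup G) P) (cv (S : Subgroup G) P) 1}
    (q : Sit F S P 1) {u : G} (hu : u ∈ (S : Subgroup G)) {b : F}
    (hb : ∀ v ∈ zl (S : Subgroup G) P, M.e (u * v * u⁻¹) 0 = ap (up b) (M.e v 0)) : u ∈ LS M := by
  obtain ⟨t, ht, htb⟩ := M.unip fun _ => b
  have htP := q.h.le ht
  have htV : t ∈ normalizer (zl (S : Subgroup G) P : Set G) := le_normalizer_zl _ _ htP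
  have ht1 : Act (co M) (zl (S : Subgroup G) P) t (up b) := fun v hv => htb.1 v hv 0
  have hu1 : Act (co M) (zl (S : Subgroup G) P) u (up b) := hb
  have h1 : Act M.natOver.e (zl (S : Subgroup G) P) (u * t⁻¹) 1 := by
    have h2 := hu1.mul (ht1.inv htV) (inv_mem htV)
    rwa [mul_inv_cancel] at h2
  have h2 := mem_centralizer_of_act q.hG S q.h M.natOver (mul_mem (q.h.le hu) (inv_mem htP)) h1
  have h3 := mem_LS_of_cent (M := M) q.h.le (mul_mem hu (inv_mem ht)) h2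
  have h4 := mul_mem h3 (mem_LS (M := M) q.h.le ht htb)
  rwa [inv_mul_cancel_right] at h4

namespace HypM

variable (D : HypM S P H)
  {M : NatK F (S : Subgroup G) P (zl (S : Subgroup G) P) (cv (S : Subgroup G) P) 1} (q : Sit F S P 1)
include D q

omit [Finite F] [CharP F 2] q in
theorem quad : AFour.Quad (S : Subgroup G) P (zl (S : Subgroup G) H) where
  SP := D.SP
  VS := D.VS
  US := D.US
  SU := D.SH.trans D.HU
  ab := fun u hu v hv => D.commU hu hv
  sq := fun u hu => D.sqU hu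

/-- **`U ≤ S₀`** -/
theorem U_le_LS : zl (S : Subgroup G) H ≤ LS M := by
  intro u hu
  obtain ⟨b, hb⟩ := RStr.exists_up D.quad M hu
  exact mem_LS_of_up q (D.US hu) fun v hv => hb v hv 0

/-- **`D ∩ I = 1`** -/
theorem D_inf_R (M : NatK F (S : Subgroup G) P (zl (S : Subgroup G) P) (cv (S : Subgroup G) P) 1) :
    cv (S : Subgroup G) P ⊓ Rr (S : Subgroup G) P H = ⊥ := by
  refine D.inf_Rr (cv_le _ _) (le_normalizer_of fun s hs d hd => conj_mem_cv (D.SP hs) hd) ?_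
  rintro d ⟨hd, hz⟩
  rw [mem_centralizer_iff]
  intro x hx
  exact mul_inv_eq_iff_eq_mul.1 (DZ_cent M D.SP hd hz hx)

theorem exists_u : ∃ u ∈ zl (S : Subgroup G) H, bet M u ≠ 0 := by
  by_contra hcon
  push Not at hcon
  apply D.ne
  rw [le_centralizer_iff]
  intro u hu
  exact (bet_eq_zero (M := M) q (D.U_le_LS q hu)).1 (hcon u hu)

/-- **`|T| ≥ 4`** -/
theorem exists_two : ∃ u ∈ zl (S : Subgroup G) H, ∃ u' ∈ zl (S : Subgroup G) H,
    bet M u ≠ 0 ∧ bet M u' ≠ 0 ∧ bet M u ≠ bet M u' := by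
  by_contra hcon
  push Not at hcon
  have hU := D.U_le_LS (M := M) q
  have h2 : D.Two := by
    intro u hu u' hu' h1 h2
    have h3 := (bet_eq_zero (M := M) q (hU hu)).not.2 h1
    have h4 := (bet_eq_zero (M := M) q (hU hu')).not.2 h2
    rw [← bet_eq_zero (M := M) q (mul_mem (hU hu) (hU hu')), bet_mul q (hU hu) (hU hu'), hcon u hu u' hu' h3 h4]
    exact CharTwo.add_self_eq_zero _
  obtain ⟨u, hu, hb⟩ := D.exists_u (M := M) q
  obtain ⟨ω, h0, h1⟩ := exists_omega q.hF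
  obtain ⟨v, hv, hve⟩ := M.surj fun _ => ![0, 1]
  obtain ⟨w, hw, hwe⟩ := M.surj fun _ => ![0, ω]
  have e1 := (e_cm q hv (hU hu)).2
  have e2 := (e_cm q hw (hU hu)).2
  rw [hve] at e1
  rw [hwe] at e2
  have e1' : M.e (cm v u) 0 0 = bet M u := by rw [e1]; exact one_mul _
  have e2' : M.e (cm w u) 0 0 = ω * bet M u := e2
  have e3 : M.e (1 : G) 0 0 = 0 := by rw [IId.Cv.e_one M]; rfl
  refine D.not_two h2 hu hv hw ?_ ?_ ?_
  · intro h
    rw [h, e3] at e1'
    exact hb e1'.symm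
  · intro h
    rw [h, e3] at e2'
    exact (mul_ne_zero h0 hb) e2'.symm
  · intro h
    rw [h, e2'] at e1'
    exact h1 ((mul_eq_right₀ hb).1 e1')

variable {g : F → G} (hg : IsG M g)
include hg

omit [Finite F] [CharP F 2] D q hg in
theorem exists_v1 (a : F) : ∃ v ∈ zl (S : Subgroup G) P, M.e v 0 1 = a := by
  obtain ⟨v, hv, h⟩ := M.surj fun _ => ![0, a]
  exact ⟨v, hv, by rw [h]; rfl⟩

/-- the value `(t, g(t² / β))` -/
theorem exists_val {u : G} (hu : u ∈ zl (S : Subgroup G) H) (hb : bet M u ≠ 0) {r : G} (hr : r ∈ Rt M) :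
    ∃ v ∈ zl (S : Subgroup G) P, cm v u = r * g (M.e r 0 0 * M.e r 0 0 / bet M u) := by
  have hU := D.U_le_LS (M := M) q
  obtain ⟨v, hv, hv1⟩ := exists_v1 (M := M) (M.e r 0 0 / bet M u)
  obtain ⟨r', hr', h1, h2⟩ := exists_cm q hg hv (hU hu)
  rw [hv1, div_mul_cancel₀ _ hb] at h1
  refine ⟨v, hv, ?_⟩
  rw [h2, R_inj q hr' hr h1, hv1]
  congr 2
  field_simp

/-- **`[U, V] = R g(F)`** -/
theorem cm_gen {K : Subgroup G}
    (hK : ∀ v ∈ zl (S : Subgroup G) P, ∀ u ∈ zl (S : Subgroup G) H, cm v u ∈ K) :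
    Rt M ≤ K ∧ ∀ x, g x ∈ K := by
  have : Fintype F := Fintype.ofFinite F
  obtain ⟨u, hu, u', hu', hb, hb', hne⟩ := D.exists_two (M := M) q
  have hgK : ∀ x, g x ∈ K := by
    intro y
    have hc : (bet M u)⁻¹ + (bet M u')⁻¹ ≠ 0 := by
      intro h
      apply hne
      have h1 : (bet M u)⁻¹ = (bet M u')⁻¹ := by
        rw [← CharTwo.sub_eq_add, sub_eq_zero] at h
        exact h
      exact inv_injective h1
    obtain ⟨t, ht⟩ := FiniteField.isSquare_of_char_two (ringChar.eq F 2) (y / ((bet M u)⁻¹ + (bet M u')⁻¹))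
    obtain ⟨r, hr, hrt⟩ := exists_R (M := M) q t
    obtain ⟨v, hv, h1⟩ := D.exists_val q hg hu hb hr
    obtain ⟨v', hv', h2⟩ := D.exists_val q hg hu' hb' hr
    rw [hrt, ← ht] at h1 h2
    have h3 := mul_mem (hK v hv u hu) (hK v' hv' u' hu')
    set A := y / ((bet M u)⁻¹ + (bet M u')⁻¹) / bet M u with hA
    set B := y / ((bet M u)⁻¹ + (bet M u')⁻¹) / bet M u' with hB
    have h4 : A + B = y := by
      rw [hA, hB, div_eq_mul_inv _ (bet M u), div_eq_mul_inv _ (bet M u'), ← mul_add, div_mul_cancel₀ _ hc]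
    have h5 : cm v u * cm v' u' = g y := by
      rw [h1, h2]
      have hrV := R_le_V q hr
      have hAV : g A ∈ zl (S : Subgroup G) P := cv_le _ _ (hg.mem A)
      calc r * g A * (r * g B) = (r * g A * r) * g B := by group
        _ = (g A * r * r) * g B := by rw [V_comm q hrV hAV]
        _ = g A * (r * r) * g B := by group
        _ = g A * g B := by rw [V_sq q hrV, mul_one]
        _ = g y := by rw [← hg.add, h4]
    rwa [h5] at h3
  refine ⟨fun r hr => ?_, hgK⟩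
  obtain ⟨v, hv, h1⟩ := D.exists_val q hg hu hb hr
  have h2 := mul_mem (hK v hv u hu) (inv_mem (hgK (M.e r 0 0 * M.e r 0 0 / bet M u)))
  rwa [h1, mul_inv_cancel_right] at h2

theorem R_le_U : Rt M ≤ zl (S : Subgroup G) H :=
  (D.cm_gen q hg fun _ hv _ hu => D.cm_memU hu hv).1

theorem g_mem_U (x : F) : g x ∈ zl (S : Subgroup G) H :=
  (D.cm_gen q hg fun _ hv _ hu => D.cm_memU hu hv).2 x

theorem D_le_U : cv (S : Subgroup G) P ≤ zl (S : Subgroup G) H := by
  intro d hd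
  obtain ⟨x, e, he, rfl⟩ := exists_g q hg hd
  exact mul_mem (D.g_mem_U q hg x) (D.ZU (mem_inf.1 he).2)

/-- **`Z⁺ ≤ U`** -/
theorem Zp_le_U : Zp M ≤ zl (S : Subgroup G) H := by
  intro z hz
  obtain ⟨r, hr, d, hd, rfl⟩ := exists_rd q hz
  exact mul_mem (D.R_le_U q hg hr) (D.D_le_U q hg hd)

end HypM

end Cfsg.Agent.Omega.NOThreeL.RF

end

-- merged: Cfsg.Agent.Mrg.Omega.NOThreeL.NsF.CountG
section

section


/-!
# NO-3L, box R, case (A), `NsF` (#22083, helper618): (c), the count at group level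

`M : NatK F S P V D 1`, `q : Nsp.Sit F S P 1`, `g` with `IsG M g`, `g ≠ 1` (not split), `X` minimal over `S₀ = LS M` with
`V ≰ O₂(X)` (`Mn S P (LS M) (Zp M) H X`), all `(Z⁺)^x ≤ S₀` (`x ∈ X`), `F_X ∩ D = 1` (GD), `V ∩ O₂(X) ≤ Z⁺` ((e)).

* `card_Zp` : `|Z⁺| = |F| |D|`;
* `Mn.card_le` : `|K_c| |D| ≤ |F_X|` for `c ≠ 0`;
* **`Mn.FX_eq`** : `F_X = R` and `g` is onto `D` (any `g ≠ 1`, injective or not).
-/

set_option autoImplicit false
set_option linter.unusedSectionVars false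
set_option linter.style.haveILetI false
set_option linter.unusedVariables false

namespace Cfsg.Agent.Omega.NOThreeL.NsF

open Subgroup Cfsg Cfsg.Agent.Omega.MinPar
open Cfsg.Agent.ZN (zc zl o2)
open Cfsg.Agent.Omega.Frame Cfsg.Agent.Omega.FrameNOFF
open Cfsg.Agent.Omega.NoFF.Basic (conj_conj mem_conj conj_le_iff conj_le_centralizer comm_symm comm_mono)
open Cfsg.Agent.Omega.NOThreeL.RTools (cm cm_def cm_mul NN conj_mem_of_mem conj_le_NN le_NN NN_le le_normalizer_NN)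
open Cfsg.Agent.Omega.FFThm (NatK ActsSL)
open Cfsg.Agent.Omega.FrameFF (cv)
open Cfsg.Agent.Omega.HOne (cv_le)
open Cfsg.Agent.Omega.IId.ThmCQ.Nsp
open Cfsg.Agent.Omega.NOThreeL.RF
open scoped Pointwise

universe u

variable {G : Type u} [Group G] [Finite G] {F : Type} [Field F] [Finite F] [CharP F 2] {S : Sylow 2 G}
  {P H X : Subgroup G} {M : NatK F (S : Subgroup G) P (zl (S : Subgroup G) P) (cv (S : Subgroup G) P) 1}

section card

variable (q : Sit F S P 1)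
include q

/-- `Z⁺ ≃ F × D` -/
noncomputable def coordE : ↥(Zp M) ≃ F × ↥(cv (S : Subgroup G) P) :=
  Equiv.ofBijective (fun z => (M.e z 0 0, ⟨eps M z, eps_mem q z.2⟩)) (by
    constructor
    · rintro ⟨z, hz⟩ ⟨w, hw⟩ h
      have h1 := congrArg Prod.fst h
      have h2 := congrArg (fun p => (p.2 : G)) h
      exact Subtype.ext (eq_of_coord q hz hw h1 h2)
    · rintro ⟨c, d, hd⟩
      obtain ⟨r, hr, hrc⟩ := exists_R (M := M) q c
      have hrZ := R_le_Zp q hr
      have hdZ : d ∈ Zp M := D_le_Zp hd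
      refine ⟨⟨r * d, mul_mem hrZ hdZ⟩, Prod.ext ?_ (Subtype.ext ?_)⟩
      · change M.e (r * d) 0 0 = c
        rw [e_add (M := M) (Zp_le hrZ) (Zp_le hdZ) 0, hrc, e_D hd 0, add_zero]
      · change eps M (r * d) = d
        rw [eps_mul q hrZ hdZ, eps_R q hr, one_mul, eps_D q hd])

theorem coordE_fst (z : ↥(Zp M)) : (coordE q z).1 = M.e z 0 0 := rfl

theorem coordE_snd (z : ↥(Zp M)) : ((coordE q z).2 : G) = eps M z := rfl

/-- `|Z⁺| = |F| |D|` -/
theorem card_Zp : Nat.card ↥(Zp M) = Nat.card F * Nat.card ↥(cv (S : Subgroup G) P) := by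
  rw [Nat.card_congr (coordE (M := M) q), Nat.card_prod]

end card

/-- `D` is abelian -/
theorem comm_D (q : Sit F S P 1) {a b : G} (ha : a ∈ cv (S : Subgroup G) P) (hb : b ∈ cv (S : Subgroup G) P) :
    a * b = b * a := by
  have ha' : a ∈ zl (S : Subgroup G) P := cv_le _ _ ha
  have hb' : b ∈ zl (S : Subgroup G) P := cv_le _ _ hb
  have h1 := sqV' q ha'
  have h2 := sqV' q hb'
  have h3 := sqV' q (mul_mem ha' hb')
  calc a * b = (a * b)⁻¹ := (invV q (mul_mem ha' hb')).symm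
    _ = b⁻¹ * a⁻¹ := mul_inv_rev _ _
    _ = b * a := by rw [invV q ha', invV q hb']

/-- `D` as an abelian group -/
abbrev cgD (q : Sit F S P 1) : CommGroup ↥(cv (S : Subgroup G) P) :=
  { (inferInstance : Group ↥(cv (S : Subgroup G) P)) with
    mul_comm := fun a b => Subtype.ext (comm_D q a.2 b.2) }

/-- `θ : F → D` -/
def thG (q : Sit F S P 1) {g : F → G} (hg : IsG M g) :
    letI := cgD q
    F →+ Additive ↥(cv (S : Subgroup G) P) :=
  letI := cgD q
  AddMonoidHom.mk' (fun x => Additive.ofMul ⟨g x, hg.mem x⟩) fun x y => by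
    rw [← ofMul_mul]
    congr 1
    exact Subtype.ext (hg.add x y)

/-- the coordinates of a subgroup `A` of `Z⁺` -/
def XA (q : Sit F S P 1) (M : NatK F (S : Subgroup G) P (zl (S : Subgroup G) P) (cv (S : Subgroup G) P) 1)
    (A : Subgroup G) :
    letI := cgD q
    AddSubgroup (F × Additive ↥(cv (S : Subgroup G) P)) :=
  letI := cgD q
  { carrier := {p | ∃ z ∈ A ⊓ Zp M, M.e z 0 0 = p.1 ∧ eps M z = ((Additive.toMul p.2 : ↥(cv (S : Subgroup G) P)) : G)}
    add_mem' := by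
      rintro ⟨s, d⟩ ⟨s', d'⟩ ⟨z, hz, h1, h2⟩ ⟨z', hz', h1', h2'⟩
      refine ⟨z * z', mul_mem hz hz', ?_, ?_⟩
      · rw [e_add (M := M) (Zp_le hz.2) (Zp_le hz'.2) 0, h1, h1']
        rfl
      · rw [eps_mul q hz.2 hz'.2, h2, h2']
        rfl
    zero_mem' := by
      refine ⟨1, one_mem _, ?_, ?_⟩
      · rw [IId.Cv.e_one M]; rfl
      · rw [eps_one q]; rfl
    neg_mem' := by
      rintro ⟨s, d⟩ ⟨z, hz, h1, h2⟩
      refine ⟨z⁻¹, inv_mem hz, ?_, ?_⟩
      · rw [e_inv' (M := M) (Zp_le hz.2) 0, h1]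
        change s = -s
        exact (CharTwo.neg_eq s).symm
      · have h3 : z⁻¹ = z := invV q (Zp_le hz.2)
        rw [h3, h2]
        change ((Additive.toMul d : ↥(cv (S : Subgroup G) P)) : G) = (((Additive.toMul d)⁻¹ : ↥(cv (S : Subgroup G) P)) : G)
        rw [Subgroup.coe_inv, invV q (cv_le _ _ (Additive.toMul d).2)] }

theorem mem_XA (q : Sit F S P 1) {A : Subgroup G} {s : F} {d : G} (hd : d ∈ cv (S : Subgroup G) P) :
    letI := cgD q
    (s, Additive.ofMul (⟨d, hd⟩ : ↥(cv (S : Subgroup G) P))) ∈ XA q M A ↔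
      ∃ z ∈ A ⊓ Zp M, M.e z 0 0 = s ∧ eps M z = d := Iff.rfl

theorem card_XA (q : Sit F S P 1) (A : Subgroup G) (hA : A ≤ Zp M) :
    letI := cgD q
    Nat.card ↥(XA q M A) = Nat.card ↥A := by
  letI := cgD q
  refine (Nat.card_congr (Equiv.ofBijective (fun z : ↥A => (⟨(M.e z 0 0, Additive.ofMul ⟨eps M z, eps_mem q (hA z.2)⟩),
    ⟨z, ⟨z.2, hA z.2⟩, rfl, rfl⟩⟩ : ↥(XA q M A))) ⟨?_, ?_⟩)).symm
  · rintro ⟨z, hz⟩ ⟨w, hw⟩ h
    have h0 := congrArg Subtype.val h
    have h1 := congrArg Prod.fst h0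
    have h2 := congrArg (fun p => ((Additive.toMul p.2 : ↥(cv (S : Subgroup G) P)) : G)) h0
    exact Subtype.ext (eq_of_coord q (hA hz) (hA hw) h1 h2)
  · rintro ⟨⟨s, d⟩, z, hz, h1, h2⟩
    refine ⟨⟨z, hz.1⟩, Subtype.ext (Prod.ext h1 ?_)⟩
    exact congrArg Additive.ofMul (Subtype.ext h2)

section main

variable {g : F → G}

/-- `|K_c| |D| ≤ |F_X|` -/
theorem Mn.card_le (N : Mn S P (LS M) (Zp M) H X) (q : Sit F S P 1) (hg : IsG M g)
    (hZ : ∀ x ∈ X, MulAut.conj x • Zp M ≤ LS M)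
    (hO : ∀ v ∈ zl (S : Subgroup G) P, v ∈ o2 X → v ∈ Zp M) {c : F} (hc : c ≠ 0) :
    letI := cgD q
    Nat.card ↥(Kc (thG q hg) (XA q M (FX (Zp M) X)) c) * Nat.card ↥(cv (S : Subgroup G) P) ≤
      Nat.card ↥(FX (Zp M) X) := by
  letI := cgD q
  set K := Kc (thG q hg) (XA q M (FX (Zp M) X)) c with hK
  -- `v` with coordinate `c`
  obtain ⟨v, hv, hvc⟩ : ∃ v ∈ zl (S : Subgroup G) P, M.e v 0 1 = c := by
    obtain ⟨v, hv, h⟩ := M.surj fun _ => ![0, c]
    exact ⟨v, hv, by rw [h]; rfl⟩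
  have hvO : v ∉ o2 X := fun h => hc (by rw [← hvc]; exact (hO v hv h).2)
  obtain ⟨x, hx, hopp⟩ := N.opp hv (sqV' q hv) hvO
  set A := MulAut.conj x • Zp M with hA
  have hAL : A ≤ LS M := hZ x hx
  -- `β : A → F`
  let ψ : ↥A →* Multiplicative F := MonoidHom.mk' (fun z => Multiplicative.ofAdd (bet M z)) fun z w => by
    change Multiplicative.ofAdd (bet M (z * w : G)) = _
    rw [bet_mul q (hAL z.2) (hAL w.2), ofAdd_add]
  let B : Subgroup ↥A := (AddSubgroup.toSubgroup K).comap ψ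
  have hB : ∀ z : ↥A, z ∈ B → (z : G) ∈ FX (Zp M) X := by
    intro z hz
    have h1 : bet M (z : G) ∈ K := hz
    have h2 : (c * bet M (z : G), thG q hg (c ^ 2 * bet M (z : G))) ∈ XA q M (FX (Zp M) X) := h1
    obtain ⟨w, hw, hw1, hw2⟩ := h2
    obtain ⟨h3, h4⟩ := e_cm q hv (hAL z.2)
    have h5 : cm v z = w := by
      refine eq_of_coord q h3 hw.2 ?_ ?_
      · rw [h4, hvc, hw1]
      · rw [hg.br v hv z (hAL z.2), hvc, hw2]
        rfl
    refine hopp z z.2 ?_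
    rw [h5]
    exact centralizer_le N.NX (mem_inf.mp hw.1).2
  have hBc : Nat.card ↥B ≤ Nat.card ↥(FX (Zp M) X) :=
    Nat.card_le_card_of_injective (fun z : ↥B => (⟨z.1, hB z.1 z.2⟩ : ↥(FX (Zp M) X))) fun z w h => by
      have h1 := congrArg Subtype.val h
      exact Subtype.ext (Subtype.ext h1)
  have hidx : B.index * Nat.card ↥K ≤ Nat.card F := by
    have h1 : B.index ≤ (AddSubgroup.toSubgroup K).index := by
      rw [Subgroup.index_comap]
      exact Nat.le_of_dvd (Nat.pos_of_ne_zero Subgroup.index_ne_zero_of_finite) (Subgroup.relIndex_dvd_index_of_normal _ _)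
    have h2 : Nat.card ↥(AddSubgroup.toSubgroup K) * (AddSubgroup.toSubgroup K).index = Nat.card (Multiplicative F) :=
      Subgroup.card_mul_index _
    have h3 : Nat.card ↥(AddSubgroup.toSubgroup K) = Nat.card ↥K := rfl
    have h4 : Nat.card (Multiplicative F) = Nat.card F := rfl
    rw [h3, h4] at h2
    rw [← h2, mul_comm]
    exact Nat.mul_le_mul_left _ h1
  have hAc : Nat.card ↥A = Nat.card F * Nat.card ↥(cv (S : Subgroup G) P) := by
    rw [← card_Zp (M := M) q]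
    exact (Nat.card_congr (Subgroup.equivSMul (MulAut.conj x) _).toEquiv).symm
  have h1 : Nat.card ↥B * B.index = Nat.card ↥A := Subgroup.card_mul_index _
  have h2 : 0 < Nat.card F := Nat.card_pos
  refine Nat.le_of_mul_le_mul_left (c := Nat.card F) ?_ h2
  calc Nat.card F * (Nat.card ↥K * Nat.card ↥(cv (S : Subgroup G) P))
      = Nat.card ↥A * Nat.card ↥K := by rw [hAc]; ring
    _ = Nat.card ↥B * (B.index * Nat.card ↥K) := by rw [← h1]; ring
    _ ≤ Nat.card ↥(FX (Zp M) X) * Nat.card F := Nat.mul_le_mul hBc hidx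
    _ = _ := mul_comm _ _

/-- **(c)** (#22083): `F_X = R` and `g` is onto `D`. -/
theorem Mn.FX_eq (N : Mn S P (LS M) (Zp M) H X) (q : Sit F S P 1) (hg : IsG M g) (hg1 : ∃ x, g x ≠ 1)
    (hZ : ∀ x ∈ X, MulAut.conj x • Zp M ≤ LS M) (hD : ∀ d ∈ cv (S : Subgroup G) P, d ∈ centralizer (X : Set G) → d = 1)
    (hO : ∀ v ∈ zl (S : Subgroup G) P, v ∈ o2 X → v ∈ Zp M) :
    FX (Zp M) X = Rt M ∧ ∀ d ∈ cv (S : Subgroup G) P, ∃ x, g x = d := by
  letI := cgD q
  have hFZ : FX (Zp M) X ≤ Zp M := inf_le_left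
  have h1 : thG q hg ≠ 0 := by
    obtain ⟨x, hx⟩ := hg1
    intro h
    refine hx ?_
    have h2 := congrArg (fun f => ((Additive.toMul (f x) : ↥(cv (S : Subgroup G) P)) : G)) h
    exact h2
  have h2 : ∀ d, ((0 : F), d) ∈ XA q M (FX (Zp M) X) → d = 0 := by
    rintro d ⟨z, hz, h3, h4⟩
    have h3' : M.e z 0 0 = 0 := h3
    have hzD : z ∈ cv (S : Subgroup G) P := (mem_D (M := M) (Zp_le hz.2)).2 ⟨h3', hz.2.2⟩
    have hz1 : z = 1 := hD z hzD (mem_inf.mp hz.1).2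
    rw [hz1, eps_one q] at h4
    exact congrArg Additive.ofMul (Subtype.ext h4.symm)
  have hcard : Nat.card (Additive ↥(cv (S : Subgroup G) P)) = Nat.card ↥(cv (S : Subgroup G) P) := rfl
  obtain ⟨h3, h4⟩ := count (X := XA q M (FX (Zp M) X)) h1 h2 fun c hc => by
    rw [card_XA q _ hFZ, hcard]
    exact N.card_le q hg hZ hO hc
  constructor
  · apply le_antisymm
    · intro z hz
      have hzZ := hFZ hz
      have h5 : (M.e z 0 0, Additive.ofMul (⟨eps M z, eps_mem q hzZ⟩ : ↥(cv (S : Subgroup G) P))) ∈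
          XA q M (FX (Zp M) X) := ⟨z, ⟨hz, hzZ⟩, rfl, rfl⟩
      have h6 := (h3 _).1 h5
      rw [← eps_eq_one q hzZ]
      exact congrArg Subtype.val (congrArg Additive.toMul h6)
    · intro z hz
      have hzZ : z ∈ Zp M := R_le_Zp q hz
      obtain ⟨w, hw, hw1, hw2⟩ := (h3 (M.e z 0 0, 0)).2 rfl
      have h5 : w = z := by
        refine eq_of_coord q hw.2 hzZ hw1 ?_
        rw [hw2, eps_R q hz]
        rfl
      rw [← h5]
      exact hw.1
  · intro d hd
    obtain ⟨x, hx⟩ := h4 (Additive.ofMul ⟨d, hd⟩)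
    exact ⟨x, congrArg Subtype.val (congrArg Additive.toMul hx)⟩

end main

end Cfsg.Agent.Omega.NOThreeL.NsF

end

section


/-!
# NO-3L, box R, case (A), `NsF` (#22083, helper618): (c), the count, over `RF.Wc` and `RF.MinX` (helper837)

* `mn_of` : `Wc` and `MinX` give `Mn`;
* **`FX_eq_of`** : `X` minimal over `S₀ = LS M`, `V ∩ O₂(X) ≤ Z⁺`, `D ∩ C(X) = 1`, `g ≠ 1` imply `C_{Z⁺}(X) = R` and
  `g(F) = D`.
-/

set_option autoImplicit false
set_option linter.unusedSectionVars false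

namespace Cfsg.Agent.Omega.NOThreeL.NsF

open Subgroup Cfsg Cfsg.Agent.Omega.MinPar
open Cfsg.Agent.ZN (zc zl o2)
open Cfsg.Agent.Omega.Frame Cfsg.Agent.Omega.FrameNOFF
open Cfsg.Agent.Omega.NoFF.Basic (conj_conj mem_conj conj_le_iff conj_le_centralizer comm_symm comm_mono)
open Cfsg.Agent.Omega.NOThreeL.Pair (conj_eq_of_mem)
open Cfsg.Agent.Omega.FFThm (NatK ActsSL)
open Cfsg.Agent.Omega.FrameFF (cv)
open Cfsg.Agent.Omega.IId.ThmCQ.Nsp
open Cfsg.Agent.Omega.NOThreeL.RF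
open scoped Pointwise

universe u

variable {G : Type u} [Group G] [Finite G] {S : Sylow 2 G} {P U H X : Subgroup G}

theorem ov_of {S₀ Zp : Subgroup G} (W : Wc S (zl (S : Subgroup G) P) U H S₀ Zp) : Ov S P S₀ Zp H where
  SH := W.SH
  S0S := W.S0S
  VS0 := W.VS0
  ZpV := W.ZpV
  cent := fun _ hz _ hs => W.S0_comm hs hz
  wc := fun _ hn h => W.le_S0 hn h
  noff := fun g h h1 h2 a ha => by
    rw [mem_centralizer_iff]
    intro b hb
    exact (W.noff g h h1 h2 a ha b hb).symm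

theorem mn_of {S₀ Zp : Subgroup G} (W : Wc S (zl (S : Subgroup G) P) U H S₀ Zp) (hX : MinX (zl (S : Subgroup G) P) H S₀ X) :
    Mn S P S₀ Zp H X where
  ov := ov_of W
  le := hX.le
  leH := hX.XH
  ne := hX.not
  min := fun Y h1 h2 h3 => by
    by_contra h4
    exact h3 (hX.min Y h1 h2 h4)

/-- **(c)** (#22083) -/
theorem FX_eq_of {F : Type} [Field F] [Finite F] [CharP F 2]
    {M : NatK F (S : Subgroup G) P (zl (S : Subgroup G) P) (cv (S : Subgroup G) P) 1} (q : Sit F S P 1) {g : F → G}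
    (hg : IsG M g) (W : Wc S (zl (S : Subgroup G) P) U H (LS M) (Zp M)) (hUL : U ≤ LS M)
    (hX : MinX (zl (S : Subgroup G) P) H (LS M) X) (hO : zl (S : Subgroup G) P ⊓ o2 X ≤ Zp M)
    (hD : cv (S : Subgroup G) P ⊓ centralizer (X : Set G) = ⊥) (hg1 : ∃ x, g x ≠ 1) :
    Zp M ⊓ centralizer (X : Set G) = Rt M ∧ ∀ d ∈ cv (S : Subgroup G) P, ∃ x, g x = d := by
  refine (mn_of W hX).FX_eq q hg hg1 (fun x hx => ?_) (fun d hd h => ?_) fun v hv hv' => hO (mem_inf.mpr ⟨hv, hv'⟩)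
  · have h1 := (conj_le_iff (g := x)).2 (W.ZpU.trans le_rfl)
    rw [conj_eq_of_mem (W.HU (hX.XH hx))] at h1
    exact h1.trans hUL
  · exact mem_bot.mp (hD ▸ mem_inf.mpr ⟨hd, h⟩)

end Cfsg.Agent.Omega.NOThreeL.NsF

end

section


/-!
# NO-3L, `R ∩ (A)`, `k = 1`, not split, field automorphisms (`NsF`): the instance of `Four`

* `mem_SL_of` : `GD.SL M = LS M`; `inv_LS` : the product of two involutions of `S - S₀` is in `S₀` (`S / S₀` is cyclic);
* `S0_of_R` : `C_S(R) = S₀`;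
* **`Four.of`** : the data `Four M g`, from `g ≠ 1` and `normD` (`N_G(Z⁺)` normalises `D`).
-/

set_option autoImplicit false
set_option linter.unusedSectionVars false

namespace Cfsg.Agent.Omega.NOThreeL.RF

open Subgroup Cfsg Cfsg.Agent.Omega.MinPar
open Cfsg.Agent.ZN (zc zl o2)
open Cfsg.Agent.Omega.Frame Cfsg.Agent.Omega.FrameNOFF
open Cfsg.Agent.Omega.Node.NO3L Cfsg.Agent.Omega.NOThreeL.Basic
open Cfsg.Agent.Omega.FFThm (NatK ActsSL)
open Cfsg.Agent.Omega.FrameFF (cv)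
open Cfsg.Agent.Omega.IId.Ns (Al)
open Cfsg.Agent.Omega.IId.ThmCQ.Nsp
open Cfsg.Agent.Omega.NOThreeL.RTools (cm cm_def conj_mem_of_mem)
open Cfsg.Agent.Lib.SL2Mat
open Cfsg.Agent.Omega.NOThreeL.RF.GD (SL sgHom ker_sgHom)
open scoped Pointwise

universe u

variable {G : Type u} [Group G] [Finite G] {F : Type} [Field F] [Finite F] [CharP F 2] {S : Sylow 2 G}
  {P : Subgroup G} {M : NatK F (S : Subgroup G) P (zl (S : Subgroup G) P) (cv (S : Subgroup G) P) 1}

theorem mem_SL_of {s : G} (q : Sit F S P 1) : s ∈ SL M ↔ s ∈ LS M := by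
  constructor
  · rintro ⟨hs, b, hb⟩
    exact mem_LS q.h.le hs (Al_iff.1 hb).2
  · intro hs
    exact ⟨LS_le hs, bet M s, Al_iff.2 ⟨q.h.le (LS_le hs), bet_LS q hs⟩⟩

/-- `S / S₀` is cyclic: the product of two involutions outside `S₀` -/
theorem inv_LS (q : Sit F S P 1) : ∀ a ∈ (S : Subgroup G), ∀ b ∈ (S : Subgroup G), a * a = 1 → b * b = 1 →
    a ∉ LS M → b ∉ LS M → a * b ∈ LS M := by
  intro a ha b hb ha2 hb2 haS hbS
  have hker : ∀ s : ↥(S : Subgroup G), sgHom S q.h M s = 1 ↔ (s : G) ∈ LS M := by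
    intro s
    rw [← MonoidHom.mem_ker, ker_sgHom q.hG S q.h M, mem_subgroupOf, mem_SL_of q]
  set α := sgHom S q.h M ⟨a, ha⟩ with hα
  set β := sgHom S q.h M ⟨b, hb⟩ with hβ
  have h1 : α * α = 1 := by
    rw [hα, ← map_mul, ← map_one (sgHom S q.h M)]
    congr 1
    exact Subtype.ext ha2
  have h2 : β * β = 1 := by
    rw [hβ, ← map_mul, ← map_one (sgHom S q.h M)]
    congr 1
    exact Subtype.ext hb2
  have h3 : α ≠ 1 := fun h => haS ((hker _).1 h)
  have h4 : β ≠ 1 := fun h => hbS ((hker _).1 h)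
  have h5 : α = β := Cfsg.Agent.StdRank2.OutField.unique_invol h1 h2 h3 h4
  have h6 : sgHom S q.h M (⟨a, ha⟩ * ⟨b, hb⟩) = 1 := by
    rw [map_mul, ← hα, ← hβ, ← h5, h1]
  exact (hker _).1 h6

/-- `C_S(R) = S₀` -/
theorem S0_of_R (q : Sit F S P 1) : ∀ s ∈ (S : Subgroup G), (∀ r ∈ Rt M, s * r = r * s) → s ∈ LS M := by
  intro s hs h
  refine NsF.mem_LS_of_line q hs fun v hv => ?_
  obtain ⟨r, hr, d, hd, rfl⟩ := exists_rd q hv
  have e1 : s * (r * d) * s⁻¹ = (s * r * s⁻¹) * (s * d * s⁻¹) := by group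
  have e2 : s * r * s⁻¹ = r := by rw [h r hr, mul_inv_cancel_right]
  have hd' : s * d * s⁻¹ ∈ cv (S : Subgroup G) P := HOne.conj_mem_cv (q.h.le hs) hd
  rw [e1, e2, e_add (R_le_V q hr) (HOne.cv_le _ _ hd'), e_add (R_le_V q hr) (HOne.cv_le _ _ hd), e_D hd', e_D hd]

/-- **The instance.** -/
theorem Four.of (hD : Data (S : Subgroup G)) (q : Sit F S P 1) {g : F → G} (hg : IsG M g) (hg1 : ∃ x, g x ≠ 1)
    (hnD : ∀ x ∈ normalizer (Zp M : Set G), MulAut.conj x • cv (S : Subgroup G) P = cv (S : Subgroup G) P) :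
    Four M g where
  hc := q.hG
  data := hD
  sit := q
  isG := hg
  ne := hg1
  S0R := S0_of_R q
  inv := inv_LS q
  gd x hx hx1 := (GD.gd q M hx hx1).2.1
  normD := hnD
  ZpU H D := D.Zp_le_U q hg
  cnt H D X hX hO hDX := by
    obtain ⟨hUL, W⟩ := wc_of q (S0_of_R q) (inv_LS q) D (D.Zp_le_U q hg)
    exact NsF.FX_eq_of q hg W hUL hX hO hDX hg1

end Cfsg.Agent.Omega.NOThreeL.RF

end

end
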